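import Mathlib

/-!
Wreathing a 2-subgroup of `GL_m` with a swap: odd order elements normalizing the result are scalar.
-/

set_option autoImplicit false

open Matrix

namespace Cfsg.Agent.Pronormal

variable {F : Type*} [Field F] {ι : Type*} [Fintype ι] [DecidableEq ι]

/-- `(a, b) ↦ diag(a, b)`. -/
def blk : GL ι F × GL ι F →* GL (ι ⊕ ι) F where
  toFun p :=
    { val := fromBlocks (p.1 : Matrix ι ι F) 0 0 (p.2 : Matrix ι ι F)
      inv := fromBlocks (p.1⁻¹ : GL ι F).1 0 0 (p.2⁻¹ : GL ι F).1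
      val_inv := by simp [fromBlocks_multiply]
      inv_val := by simp [fromBlocks_multiply] }
  map_one' := Units.ext (by simp)
  map_mul' p r := Units.ext (by simp [fromBlocks_multiply])

theorem coe_blk (p : GL ι F × GL ι F) :
    ((blk p : GL (ι ⊕ ι) F) : Matrix (ι ⊕ ι) (ι ⊕ ι) F) = fromBlocks p.1.1 0 0 p.2.1 := rfl

theorem blk_injective : Function.Injective (blk : GL ι F × GL ι F →* GL (ι ⊕ ι) F) := by
  rintro ⟨a, b⟩ ⟨c, d⟩ h
  have h' := congrArg Units.val h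
  rw [coe_blk, coe_blk, fromBlocks_inj] at h'
  exact Prod.ext (Units.ext h'.1) (Units.ext h'.2.2.2)

/-- The swap of the two blocks. -/
def swp : GL (ι ⊕ ι) F where
  val := fromBlocks 0 1 1 0
  inv := fromBlocks 0 1 1 0
  val_inv := by simp [fromBlocks_multiply]
  inv_val := by simp [fromBlocks_multiply]

theorem swp_mul_swp : (swp : GL (ι ⊕ ι) F) * swp = 1 :=
  Units.ext (by simp [swp, fromBlocks_multiply])

theorem swp_inv : (swp : GL (ι ⊕ ι) F)⁻¹ = swp := inv_eq_of_mul_eq_one_right swp_mul_swp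

theorem swp_mul_blk (a b : GL ι F) : swp * blk (a, b) = blk (b, a) * swp :=
  Units.ext (by simp [swp, blk, fromBlocks_multiply])

theorem det_blk (a b : GL ι F) : GeneralLinearGroup.det (blk (a, b)) = GeneralLinearGroup.det a * GeneralLinearGroup.det b := by
  refine Units.ext ?_
  simp [coe_blk, det_fromBlocks_zero₂₁]

theorem det_swp : GeneralLinearGroup.det (swp : GL (ι ⊕ ι) F) = GeneralLinearGroup.det (-1 : GL ι F) := by
  refine Units.ext ?_
  rw [GeneralLinearGroup.val_det_apply, GeneralLinearGroup.val_det_apply]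
  have e : (fromBlocks 0 1 1 0 : Matrix (ι ⊕ ι) (ι ⊕ ι) F) =
      fromBlocks 1 0 1 1 * fromBlocks 1 (-1) 0 1 * fromBlocks 1 0 1 1 * fromBlocks 1 0 0 (-1) := by
    simp [fromBlocks_multiply]
  show Matrix.det (fromBlocks 0 1 1 0 : Matrix (ι ⊕ ι) (ι ⊕ ι) F) = _
  rw [e, det_mul, det_mul, det_mul, det_fromBlocks_zero₁₂, det_fromBlocks_zero₂₁, det_fromBlocks_zero₂₁]
  simp

theorem trace_blk (a b : GL ι F) :
    ((blk (a, b) : GL (ι ⊕ ι) F) : Matrix (ι ⊕ ι) (ι ⊕ ι) F).trace = a.1.trace + b.1.trace := by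
  simp [coe_blk, Matrix.trace, Fintype.sum_sum_type]

theorem trace_blk_swp (a b : GL ι F) :
    ((blk (a, b) * swp : GL (ι ⊕ ι) F) : Matrix (ι ⊕ ι) (ι ⊕ ι) F).trace = 0 := by
  simp [swp, blk, fromBlocks_multiply, Matrix.trace, Fintype.sum_sum_type]

/-- `S ≀ 2`. -/
def wreath (S : Subgroup (GL ι F)) : Subgroup (GL (ι ⊕ ι) F) where
  carrier := {g | ∃ a ∈ S, ∃ b ∈ S, g = blk (a, b) ∨ g = blk (a, b) * swp}
  one_mem' := ⟨1, S.one_mem, 1, S.one_mem, Or.inl (map_one blk).symm⟩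
  mul_mem' := by
    rintro g h ⟨a, ha, b, hb, hg⟩ ⟨c, hc, d, hd, hh⟩
    rcases hg with rfl | rfl <;> rcases hh with rfl | rfl
    · exact ⟨a * c, S.mul_mem ha hc, b * d, S.mul_mem hb hd, Or.inl (by rw [← map_mul]; rfl)⟩
    · exact ⟨a * c, S.mul_mem ha hc, b * d, S.mul_mem hb hd, Or.inr (by rw [← mul_assoc, ← map_mul]; rfl)⟩
    · refine ⟨a * d, S.mul_mem ha hd, b * c, S.mul_mem hb hc, Or.inr ?_⟩
      rw [mul_assoc, swp_mul_blk, ← mul_assoc, ← map_mul]; rfl
    · refine ⟨a * d, S.mul_mem ha hd, b * c, S.mul_mem hb hc, Or.inl ?_⟩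
      rw [mul_assoc, ← mul_assoc swp, swp_mul_blk, mul_assoc, swp_mul_swp, mul_one, ← map_mul]; rfl
  inv_mem' := by
    rintro g ⟨a, ha, b, hb, rfl | rfl⟩
    · exact ⟨a⁻¹, S.inv_mem ha, b⁻¹, S.inv_mem hb, Or.inl (map_inv blk (a, b)).symm⟩
    · refine ⟨b⁻¹, S.inv_mem hb, a⁻¹, S.inv_mem ha, Or.inr ?_⟩
      rw [_root_.mul_inv_rev, swp_inv, ← map_inv, show ((a, b) : GL ι F × GL ι F)⁻¹ = (a⁻¹, b⁻¹) from rfl, swp_mul_blk]

theorem mem_wreath {S : Subgroup (GL ι F)} {g : GL (ι ⊕ ι) F} :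
    g ∈ wreath S ↔ ∃ a ∈ S, ∃ b ∈ S, g = blk (a, b) ∨ g = blk (a, b) * swp := Iff.rfl

theorem blk_mem_wreath {S : Subgroup (GL ι F)} {a b : GL ι F} (ha : a ∈ S) (hb : b ∈ S) :
    blk (a, b) ∈ wreath S := ⟨a, ha, b, hb, Or.inl rfl⟩

theorem swp_mem_wreath (S : Subgroup (GL ι F)) : swp ∈ wreath S :=
  ⟨1, S.one_mem, 1, S.one_mem, Or.inr (by rw [show ((1, 1) : GL ι F × GL ι F) = 1 from rfl, map_one, one_mul])⟩

theorem card_wreath [Nonempty ι] (S : Subgroup (GL ι F)) :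
    Nat.card (wreath S) = 2 * Nat.card S ^ 2 := by
  rw [pow_two, ← Nat.card_prod, show 2 = Nat.card Bool by simp, ← Nat.card_prod]
  symm
  let f : Bool × S × S → wreath S := fun p =>
    ⟨cond p.1 (blk (p.2.1.1, p.2.2.1) * swp) (blk (p.2.1.1, p.2.2.1)),
      ⟨_, p.2.1.2, _, p.2.2.2, by cases p.1 <;> simp⟩⟩
  have hne : ∀ (a b c d : GL ι F), blk (a, b) ≠ blk (c, d) * swp := by
    intro a b c d h
    have h' := congrArg Units.val h
    simp [swp, blk, fromBlocks_multiply, fromBlocks_inj] at h'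
  refine Nat.card_eq_of_bijective f ⟨?_, ?_⟩
  · rintro ⟨u, a, b⟩ ⟨v, c, d⟩ h
    have h' := congrArg Subtype.val h
    rcases u <;> rcases v <;> simp only [f, cond] at h'
    · have := blk_injective h'
      simp only [Prod.mk.injEq] at this
      rw [Subtype.ext this.1, Subtype.ext this.2]
    · exact absurd h' (hne _ _ _ _)
    · exact absurd h'.symm (hne _ _ _ _)
    · have := blk_injective (mul_right_cancel h')
      simp only [Prod.mk.injEq] at this
      rw [Subtype.ext this.1, Subtype.ext this.2]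
  · rintro ⟨g, a, ha, b, hb, rfl | rfl⟩
    · exact ⟨(false, ⟨a, ha⟩, ⟨b, hb⟩), rfl⟩
    · exact ⟨(true, ⟨a, ha⟩, ⟨b, hb⟩), rfl⟩

/-- The properties carried through the recursion. -/
structure Good (S : Subgroup (GL ι F)) : Prop where
  pgroup : IsPGroup 2 S
  cent : ∀ x : GL ι F, (∀ a ∈ S, Commute x a) → ∃ c : F, (x : Matrix ι ι F) = c • 1
  norm : ∀ x : GL ι F, Odd (orderOf x) → (∀ a ∈ S, x * a * x⁻¹ ∈ S) → ∃ c : F, (x : Matrix ι ι F) = c • 1
  sqrt : ∃ y ∈ S, y * y = -1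
  nonsq : ∃ a ∈ S, (∀ b ∈ S, GeneralLinearGroup.det b * GeneralLinearGroup.det b ≠ GeneralLinearGroup.det a) ∧
    (a : Matrix ι ι F).trace ≠ 0

theorem eq_one_of_odd_of_pGroup {G : Type*} [Group G] {P : Subgroup G} (hP : IsPGroup 2 P) {z : G}
    (hz : z ∈ P) {N : ℕ} (hN : Odd N) (hzN : z ^ N = 1) : z = 1 := by
  obtain ⟨k, hk⟩ := hP ⟨z, hz⟩
  have hk' : z ^ 2 ^ k = 1 := by simpa using congrArg Subtype.val hk
  have h := Nat.dvd_gcd (orderOf_dvd_of_pow_eq_one hk') (orderOf_dvd_of_pow_eq_one hzN)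
  rw [Nat.Coprime.pow_left k (Nat.coprime_two_left.2 hN), Nat.dvd_one] at h
  exact orderOf_eq_one_iff.1 h

theorem commute_blk_iff {x : GL (ι ⊕ ι) F} (h2 : (2 : F) ≠ 0) (h : Commute x (blk ((1 : GL ι F), (-1 : GL ι F)))) :
    ∃ P Q : GL ι F, x = blk (P, Q) := by
  have hx := congrArg Units.val h.eq
  have hy := congrArg Units.val h.inv_left.eq
  obtain ⟨A, B, C, D, he⟩ : ∃ A B C D, (x : Matrix (ι ⊕ ι) (ι ⊕ ι) F) = fromBlocks A B C D :=
    ⟨_, _, _, _, (fromBlocks_toBlocks _).symm⟩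
  obtain ⟨A', B', C', D', he'⟩ : ∃ A B C D, ((x⁻¹ : GL (ι ⊕ ι) F) : Matrix (ι ⊕ ι) (ι ⊕ ι) F) = fromBlocks A B C D :=
    ⟨_, _, _, _, (fromBlocks_toBlocks _).symm⟩
  have hzero : ∀ M : Matrix ι ι F, -M = M → M = 0 := by
    intro M hM
    ext i j
    have := congrFun (congrFun hM i) j
    simp only [Matrix.neg_apply] at this
    exact (mul_eq_zero.1 (show (2 : F) * M i j = 0 by linear_combination -this)).resolve_left h2
  simp [he, coe_blk, fromBlocks_multiply, fromBlocks_inj] at hx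
  simp [he', coe_blk, fromBlocks_multiply, fromBlocks_inj] at hy
  obtain rfl : B = 0 := hzero B hx.1
  obtain rfl : C = 0 := hzero C hx.2.symm
  obtain rfl : B' = 0 := hzero B' hy.1
  obtain rfl : C' = 0 := hzero C' hy.2.symm
  have h1 : fromBlocks A 0 0 D * fromBlocks A' 0 0 D' = 1 := by
    rw [← he, ← he', ← GeneralLinearGroup.coe_mul, mul_inv_cancel]; rfl
  have h1' : fromBlocks A' 0 0 D' * fromBlocks A 0 0 D = 1 := by
    rw [← he, ← he', ← GeneralLinearGroup.coe_mul, inv_mul_cancel]; rfl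
  rw [fromBlocks_multiply, ← fromBlocks_one, fromBlocks_inj] at h1 h1'
  simp at h1 h1'
  exact ⟨⟨A, A', h1.1, h1'.1⟩, ⟨D, D', h1.2, h1'.2⟩, Units.ext he⟩

theorem commute_scalar {P : GL ι F} {c : F} (h : (P : Matrix ι ι F) = c • 1) (a : GL ι F) : Commute P a :=
  Units.ext (by simp [h])

variable {S : Subgroup (GL ι F)}

theorem Good.neg_one_mem (hS : Good S) : (-1 : GL ι F) ∈ S := by
  obtain ⟨y, hy, hyy⟩ := hS.sqrt
  exact hyy ▸ S.mul_mem hy hy

/-- The common step: `T ≤ S ≀ 2` normalized by an element of odd order. -/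
theorem scalar_of_normalizes (hm : (Fintype.card ι : F) ≠ 0) (h2 : (2 : F) ≠ 0) (hS : Good S)
    {T : Subgroup (GL (ι ⊕ ι) F)} (hT : T ≤ wreath S) (hswp : swp ∈ T) (he : blk ((1 : GL ι F), (-1 : GL ι F)) ∈ T)
    (hproj : ∀ a ∈ S, ∃ b ∈ S, blk (a, b) ∈ T)
    (hB : ∀ C : Subgroup (GL (ι ⊕ ι) F), (∀ g ∈ T, g * g ∈ C) → (∀ g ∈ T, ∀ h ∈ T, g ∉ C → h ∉ C → g * h ∈ C) →
      (∀ a ∈ S, ∀ b ∈ S, blk (a, b) ∈ T → blk (a, b) ∉ C → a.1.trace + b.1.trace = 0) →
      ∀ a ∈ S, ∀ b ∈ S, blk (a, b) ∈ T → blk (a, b) ∈ C)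
    {x : GL (ι ⊕ ι) F} (hx : Odd (orderOf x)) (hn : ∀ g ∈ T, x * g * x⁻¹ ∈ T) :
    ∃ c : F, (x : Matrix (ι ⊕ ι) (ι ⊕ ι) F) = c • 1 := by
  obtain ⟨N', hN'⟩ : ∃ N', orderOf x = N' + 1 := ⟨orderOf x - 1, by have := hx.pos; omega⟩
  have hxinv : x⁻¹ = x ^ N' := inv_eq_of_mul_eq_one_left (by rw [← pow_succ, ← hN', pow_orderOf_eq_one])
  have hpown : ∀ (k : ℕ), ∀ g ∈ T, x ^ k * g * (x ^ k)⁻¹ ∈ T := by
    intro k
    induction k with
    | zero => intro g hg; simpa using hg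
    | succ k ih =>
      intro g hg
      rw [show x ^ (k + 1) * g * (x ^ (k + 1))⁻¹ = x * (x ^ k * g * (x ^ k)⁻¹) * x⁻¹ by rw [pow_succ']; group]
      exact hn _ (ih g hg)
  have hn' : ∀ g ∈ T, x⁻¹ * g * x ∈ T := fun g hg => by
    have := hpown N' g hg
    rwa [← hxinv, inv_inv] at this
  -- `B` is the base group
  let B : Subgroup (GL (ι ⊕ ι) F) := T ⊓ (S.prod S).map blk
  have hmemB : ∀ g, g ∈ B ↔ ∃ a ∈ S, ∃ b ∈ S, blk (a, b) ∈ T ∧ g = blk (a, b) := by
    intro g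
    constructor
    · rintro ⟨hg, ⟨a, b⟩, ⟨ha, hb⟩, rfl⟩
      exact ⟨a, ha, b, hb, hg, rfl⟩
    · rintro ⟨a, ha, b, hb, hg, rfl⟩
      exact ⟨hg, (a, b), ⟨ha, hb⟩, rfl⟩
  have hout : ∀ g ∈ T, g ∉ B → ∃ a ∈ S, ∃ b ∈ S, g = blk (a, b) * swp := by
    intro g hg hgB
    obtain ⟨a, ha, b, hb, rfl | rfl⟩ := hT hg
    · exact absurd ((hmemB _).2 ⟨a, ha, b, hb, hg, rfl⟩) hgB
    · exact ⟨a, ha, b, hb, rfl⟩
  have hsq : ∀ g ∈ T, ∀ h ∈ T, g ∉ B → h ∉ B → g * h ∈ B := by
    intro g hg h hh hgB hhB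
    obtain ⟨a, ha, b, hb, rfl⟩ := hout g hg hgB
    obtain ⟨c, hc, d, hd, rfl⟩ := hout h hh hhB
    refine (hmemB _).2 ⟨a * d, S.mul_mem ha hd, b * c, S.mul_mem hb hc, ?_, ?_⟩
    · have := T.mul_mem hg hh
      rwa [mul_assoc, ← mul_assoc swp, swp_mul_blk, mul_assoc, swp_mul_swp, mul_one, ← map_mul] at this
    · rw [mul_assoc, ← mul_assoc swp, swp_mul_blk, mul_assoc, swp_mul_swp, mul_one, ← map_mul]
      rfl
  let C : Subgroup (GL (ι ⊕ ι) F) := B.comap (MulAut.conj x⁻¹).toMonoidHom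
  have hmemC : ∀ g, g ∈ C ↔ x⁻¹ * g * x ∈ B := fun g => by simp [C]
  have hC1 : ∀ g ∈ T, ∀ h ∈ T, g ∉ C → h ∉ C → g * h ∈ C := by
    intro g hg h hh hgC hhC
    rw [hmemC] at hgC hhC ⊢
    rw [show x⁻¹ * (g * h) * x = (x⁻¹ * g * x) * (x⁻¹ * h * x) by group]
    exact hsq _ (hn' g hg) _ (hn' h hh) hgC hhC
  have hC2 : ∀ g ∈ T, g * g ∈ C := fun g hg => by
    by_cases h : g ∈ C
    · exact C.mul_mem h h
    · exact hC1 g hg g hg h h
  have hC3 : ∀ a ∈ S, ∀ b ∈ S, blk (a, b) ∈ T → blk (a, b) ∉ C → a.1.trace + b.1.trace = 0 := by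
    intro a _ b _ hg hgC
    rw [hmemC] at hgC
    obtain ⟨c, -, d, -, hcd⟩ := hout _ (hn' _ hg) hgC
    have := congrArg (fun u : GL (ι ⊕ ι) F => (u : Matrix (ι ⊕ ι) (ι ⊕ ι) F).trace) hcd
    rw [trace_blk_swp, GeneralLinearGroup.coe_mul, Matrix.trace_mul_comm, ← GeneralLinearGroup.coe_mul,
      ← mul_assoc, mul_inv_cancel, one_mul, trace_blk] at this
    exact this
  have hBB : ∀ g ∈ B, x⁻¹ * g * x ∈ B := by
    intro g hg
    obtain ⟨a, ha, b, hb, habT, rfl⟩ := (hmemB g).1 hg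
    exact (hmemC _).1 (hB C hC2 hC1 hC3 a ha b hb habT)
  have hBpow : ∀ (k : ℕ), ∀ g ∈ B, (x ^ k)⁻¹ * g * x ^ k ∈ B := by
    intro k
    induction k with
    | zero => intro g hg; simpa using hg
    | succ k ih =>
      intro g hg
      rw [show (x ^ (k + 1))⁻¹ * g * x ^ (k + 1) = x⁻¹ * ((x ^ k)⁻¹ * g * x ^ k) * x by rw [pow_succ]; group]
      exact hBB _ (ih g hg)
  have hBB' : ∀ g ∈ B, x * g * x⁻¹ ∈ B := fun g hg => by
    have := hBpow N' g hg
    rwa [← hxinv, inv_inv] at this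
  -- the involution `e`
  set e : GL (ι ⊕ ι) F := blk ((1 : GL ι F), (-1 : GL ι F)) with hedef
  have heB : e ∈ B := (hmemB _).2 ⟨1, S.one_mem, -1, hS.neg_one_mem, he, rfl⟩
  have hee : e * e = 1 := by rw [hedef, ← map_mul, show ((1, -1) : GL ι F × GL ι F) * (1, -1) = 1 from
    Prod.ext (by simp) (by simp), map_one]
  have hecomm : ∀ g ∈ B, Commute g e := by
    intro g hg
    obtain ⟨a, -, b, -, -, rfl⟩ := (hmemB g).1 hg
    show blk (a, b) * blk ((1 : GL ι F), (-1 : GL ι F)) = blk ((1 : GL ι F), (-1 : GL ι F)) * blk (a, b)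
    rw [← map_mul, ← map_mul]
    congr 1
    ext <;> simp
  have hxe : Commute x e := by
    obtain ⟨u, -, v, -, -, huv⟩ := (hmemB _).1 (hBB e heB)
    have hcen : ∀ a ∈ S, ∀ b ∈ S, blk (a, b) ∈ T → Commute u a ∧ Commute v b := by
      intro a ha b hb hab
      have h1 : x * blk (a, b) * x⁻¹ * e = e * (x * blk (a, b) * x⁻¹) :=
        hecomm _ (hBB' _ ((hmemB _).2 ⟨a, ha, b, hb, hab, rfl⟩))
      have h3 : blk (u, v) * blk (a, b) = blk (a, b) * blk (u, v) := by
        rw [← huv, show x⁻¹ * e * x * blk (a, b) = x⁻¹ * (e * (x * blk (a, b) * x⁻¹)) * x by group,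
          ← h1]
        group
      rw [← map_mul, ← map_mul] at h3
      have := blk_injective h3
      exact ⟨congrArg Prod.fst this, congrArg Prod.snd this⟩
    obtain ⟨c, hc⟩ := hS.cent u fun a ha => by
      obtain ⟨b, hb, hab⟩ := hproj a ha
      exact (hcen a ha b hb hab).1
    obtain ⟨d, hd⟩ := hS.cent v fun b hb => by
      obtain ⟨a, ha, hba⟩ := hproj b hb
      have := T.mul_mem (T.mul_mem hswp hba) hswp
      rw [swp_mul_blk, mul_assoc, swp_mul_swp, mul_one] at this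
      exact (hcen a ha b hb this).2
    have hne : Nonempty ι := by
      by_contra h
      haveI := not_nonempty_iff.1 h
      exact hm (by simp)
    obtain ⟨i₀⟩ := hne
    have h11 : blk (u, v) * blk (u, v) = 1 := by
      rw [← huv, show x⁻¹ * e * x * (x⁻¹ * e * x) = x⁻¹ * (e * e) * x by group, hee]; group
    rw [← map_mul, ← map_one blk] at h11
    have h11' := blk_injective h11
    have hsc : ∀ (w : GL ι F) (r : F), (w : Matrix ι ι F) = r • 1 → w * w = 1 → r = 1 ∨ r = -1 := by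
      intro w r hr hw
      have := congrArg (fun M : GL ι F => (M : Matrix ι ι F) i₀ i₀) hw
      simp [hr] at this
      exact mul_self_eq_one_iff.1 this
    have hc1 := hsc u c hc (congrArg Prod.fst h11')
    have htr : (Fintype.card ι : F) * c + (Fintype.card ι : F) * d = 0 := by
      have h := congrArg (fun g : GL (ι ⊕ ι) F => (g : Matrix (ι ⊕ ι) (ι ⊕ ι) F).trace) huv
      rw [GeneralLinearGroup.coe_mul, Matrix.trace_mul_comm, ← GeneralLinearGroup.coe_mul, ← mul_assoc,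
        mul_inv_cancel, one_mul, hedef, trace_blk, trace_blk, hc, hd, Matrix.trace_smul, Matrix.trace_smul,
        Units.val_neg, Matrix.trace_neg, Units.val_one, Matrix.trace_one] at h
      simp only [smul_eq_mul] at h
      linear_combination -h
    have hdc : d = -c := by
      rw [← mul_add] at htr
      linear_combination (mul_eq_zero.1 htr).resolve_left hm
    rcases hc1 with rfl | rfl
    · have hu : u = 1 := Units.ext (by rw [hc, one_smul]; rfl)
      have hv : v = -1 := Units.ext (by rw [hd, hdc]; simp)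
      rw [hu, hv] at huv
      have : e * x = x * e := by
        have := congrArg (x * ·) huv
        simpa [mul_assoc] using this
      exact this.symm
    · exfalso
      have hu : u = -1 := Units.ext (by rw [hc]; simp)
      have hv : v = 1 := Units.ext (by rw [hd, hdc]; simp)
      rw [hu, hv] at huv
      have hflip : x⁻¹ * e * x = -e := by
        rw [huv, hedef]
        exact Units.ext (by simp [coe_blk, fromBlocks_neg])
      have hk : ∀ k : ℕ, (x ^ k)⁻¹ * e * x ^ k = if Even k then e else -e := by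
        intro k
        induction k with
        | zero => simp
        | succ k ih =>
          rw [show (x ^ (k + 1))⁻¹ * e * x ^ (k + 1) = x⁻¹ * ((x ^ k)⁻¹ * e * x ^ k) * x by rw [pow_succ]; group,
            ih]
          by_cases hk : Even k
          · rw [if_pos hk, if_neg (by simp [Nat.even_add_one, hk]), hflip]
          · rw [if_neg hk, if_pos (by simp [Nat.even_add_one, hk]), mul_neg, neg_mul, hflip, neg_neg]
      have h := hk (orderOf x)
      rw [pow_orderOf_eq_one, if_neg (Nat.not_even_iff_odd.2 hx)] at h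
      have h' := congrArg (fun M : GL (ι ⊕ ι) F => (M : Matrix (ι ⊕ ι) (ι ⊕ ι) F) (Sum.inl i₀) (Sum.inl i₀)) (show e = -e by simpa using h)
      simp [hedef, coe_blk] at h'
      exact h2 (by linear_combination h')
  obtain ⟨P, Q, rfl⟩ := commute_blk_iff h2 hxe
  have hpow1 : P ^ orderOf (blk (P, Q)) = 1 ∧ Q ^ orderOf (blk (P, Q)) = 1 := by
    have := pow_orderOf_eq_one (blk (P, Q))
    rw [← map_pow, ← map_one blk] at this
    have := blk_injective this
    exact ⟨congrArg Prod.fst this, congrArg Prod.snd this⟩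
  have hP : ∀ a ∈ S, P * a * P⁻¹ ∈ S := by
    intro a ha
    obtain ⟨b, hb, hab⟩ := hproj a ha
    obtain ⟨c, hc, d, -, -, heq⟩ := (hmemB _).1 (hBB' _ ((hmemB _).2 ⟨a, ha, b, hb, hab, rfl⟩))
    rw [← map_inv, ← map_mul, ← map_mul] at heq
    rw [show P * a * P⁻¹ = c from congrArg Prod.fst (blk_injective heq)]
    exact hc
  have hQ : ∀ b ∈ S, Q * b * Q⁻¹ ∈ S := by
    intro b hb
    obtain ⟨a, ha, hba⟩ := hproj b hb
    have hab := T.mul_mem (T.mul_mem hswp hba) hswp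
    rw [swp_mul_blk, mul_assoc, swp_mul_swp, mul_one] at hab
    obtain ⟨c, -, d, hd, -, heq⟩ := (hmemB _).1 (hBB' _ ((hmemB _).2 ⟨a, ha, b, hb, hab, rfl⟩))
    rw [← map_inv, ← map_mul, ← map_mul] at heq
    rw [show Q * b * Q⁻¹ = d from congrArg Prod.snd (blk_injective heq)]
    exact hd
  obtain ⟨c, hc⟩ := hS.norm P (hx.of_dvd_nat (orderOf_dvd_of_pow_eq_one hpow1.1)) hP
  obtain ⟨d, hd⟩ := hS.norm Q (hx.of_dvd_nat (orderOf_dvd_of_pow_eq_one hpow1.2)) hQ
  have h1 : blk (P * Q⁻¹, Q * P⁻¹) * swp ∈ wreath S := by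
    have := hT (hn _ hswp)
    rw [← map_inv, mul_assoc, swp_mul_blk, ← mul_assoc, ← map_mul] at this
    exact this
  have h2' := (wreath S).mul_mem h1 (swp_mem_wreath S)
  rw [mul_assoc, swp_mul_swp, mul_one] at h2'
  obtain ⟨a, ha, b, -, h3 | h3⟩ := mem_wreath.1 h2'
  · have hpq : P * Q⁻¹ = a := congrArg Prod.fst (blk_injective h3)
    have h4 : (P * Q⁻¹) ^ orderOf (blk (P, Q)) = 1 := by
      rw [((commute_scalar hd P).inv_left.symm).mul_pow, inv_pow, hpow1.1, hpow1.2, inv_one, one_mul]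
    have h5 := eq_one_of_odd_of_pGroup hS.pgroup (hpq ▸ ha) hx h4
    rw [mul_inv_eq_one] at h5
    subst h5
    exact ⟨c, by rw [coe_blk, hc, ← fromBlocks_one, fromBlocks_smul]; simp⟩
  · exfalso
    have h' := congrArg Units.val h3
    simp [swp, blk, fromBlocks_multiply, fromBlocks_inj, hc] at h'
    have hne : Nonempty ι := by
      by_contra h
      haveI := not_nonempty_iff.1 h
      exact hm (by simp)
    haveI : Nontrivial (Matrix ι ι F) := by
      obtain ⟨i₀⟩ := hne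
      exact ⟨0, 1, fun e => by simpa using congrArg (fun M : Matrix ι ι F => M i₀ i₀) e⟩
    exact (P * Q⁻¹).ne_zero (by rw [GeneralLinearGroup.coe_mul, hc]; simp [h'.1])

/-- The recursion step. -/
theorem Good.wreath [Nonempty ι] (hm : (Fintype.card ι : F) ≠ 0) (h2 : (2 : F) ≠ 0) (hS : Good S) :
    Good (Pronormal.wreath S) := by
  obtain ⟨y, hy, hyy⟩ := hS.sqrt
  constructor
  · intro g
    obtain ⟨g, a, ha, b, hb, rfl | rfl⟩ := g
    · obtain ⟨k, hk⟩ := hS.pgroup ⟨a, ha⟩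
      obtain ⟨l, hl⟩ := hS.pgroup ⟨b, hb⟩
      have hk' : a ^ 2 ^ k = 1 := by simpa using congrArg Subtype.val hk
      have hl' : b ^ 2 ^ l = 1 := by simpa using congrArg Subtype.val hl
      refine ⟨k + l, Subtype.ext ?_⟩
      show blk (a, b) ^ 2 ^ (k + l) = 1
      rw [← map_pow, pow_add, show ((a, b) : GL ι F × GL ι F) ^ (2 ^ k * 2 ^ l) = 1 from
        Prod.ext (show a ^ (2 ^ k * 2 ^ l) = 1 by rw [pow_mul, hk', one_pow])
          (show b ^ (2 ^ k * 2 ^ l) = 1 by rw [mul_comm, pow_mul, hl', one_pow]), map_one]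
    · obtain ⟨k, hk⟩ := hS.pgroup ⟨a * b, S.mul_mem ha hb⟩
      obtain ⟨l, hl⟩ := hS.pgroup ⟨b * a, S.mul_mem hb ha⟩
      have hk' : (a * b) ^ 2 ^ k = 1 := by simpa using congrArg Subtype.val hk
      have hl' : (b * a) ^ 2 ^ l = 1 := by simpa using congrArg Subtype.val hl
      refine ⟨k + l + 1, Subtype.ext ?_⟩
      show (blk (a, b) * swp) ^ 2 ^ (k + l + 1) = 1
      rw [pow_succ' 2 (k + l), pow_mul, pow_two, mul_assoc, ← mul_assoc swp, swp_mul_blk, mul_assoc,
        swp_mul_swp, mul_one, ← map_mul, ← map_pow, pow_add,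
        show (((a, b) : GL ι F × GL ι F) * (b, a)) ^ (2 ^ k * 2 ^ l) = 1 from
          Prod.ext (show (a * b) ^ (2 ^ k * 2 ^ l) = 1 by rw [pow_mul, hk', one_pow])
            (show (b * a) ^ (2 ^ k * 2 ^ l) = 1 by rw [mul_comm (2 ^ k), pow_mul, hl', one_pow]), map_one]
  · intro x hx
    obtain ⟨P, Q, rfl⟩ := commute_blk_iff h2 (hx _ (blk_mem_wreath S.one_mem hS.neg_one_mem))
    have hcomm : ∀ a ∈ S, Commute P a ∧ Commute Q a := by
      intro a ha
      have h := hx _ (blk_mem_wreath ha ha)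
      have h' : ((P, Q) : GL ι F × GL ι F) * (a, a) = (a, a) * (P, Q) :=
        blk_injective (by rw [map_mul, map_mul]; exact h)
      exact ⟨congrArg Prod.fst h', congrArg Prod.snd h'⟩
    obtain ⟨c, hc⟩ := hS.cent P fun a ha => (hcomm a ha).1
    have hs : blk (P, Q) * swp = swp * blk (P, Q) := hx _ (swp_mem_wreath S)
    rw [swp_mul_blk] at hs
    have hPQ : P = Q := congrArg Prod.fst (blk_injective (mul_right_cancel hs))
    subst hPQ
    exact ⟨c, by rw [coe_blk, hc, ← fromBlocks_one, fromBlocks_smul]; simp⟩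
  · intro x hx hn
    refine scalar_of_normalizes hm h2 hS le_rfl (swp_mem_wreath S) (blk_mem_wreath S.one_mem hS.neg_one_mem)
      (fun a ha => ⟨1, S.one_mem, blk_mem_wreath ha S.one_mem⟩) ?_ hx hn
    intro C hC2 hC1 hC3 a ha b hb _
    have hkey : ∀ k ∈ S, blk (k, 1) ∈ C ∧ blk (1, k) ∈ C := by
      intro k hk
      have hsq1 : blk ((-1 : GL ι F), (1 : GL ι F)) ∈ C := by
        have := hC2 _ (blk_mem_wreath hy S.one_mem)
        rwa [← map_mul, show ((y, 1) : GL ι F × GL ι F) * (y, 1) = (-1, 1) from Prod.ext hyy (one_mul 1)] at this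
      have hsq2 : blk ((1 : GL ι F), (-1 : GL ι F)) ∈ C := by
        have := hC2 _ (blk_mem_wreath S.one_mem hy)
        rwa [← map_mul, show ((1, y) : GL ι F × GL ι F) * (1, y) = (1, -1) from Prod.ext (one_mul 1) hyy] at this
      have hone : (1 : GL ι F).1.trace = (Fintype.card ι : F) := by simp
      refine ⟨?_, ?_⟩
      · by_contra hnot
        have e1 := hC3 k hk 1 S.one_mem (blk_mem_wreath hk S.one_mem) hnot
        have hnot' : blk (k, (-1 : GL ι F)) ∉ C := fun h => hnot (by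
          have := C.mul_mem h hsq2
          rwa [← map_mul, show ((k, -1) : GL ι F × GL ι F) * (1, -1) = (k, 1) from Prod.ext (mul_one k) (by simp)] at this)
        have e2 := hC3 k hk (-1) hS.neg_one_mem (blk_mem_wreath hk hS.neg_one_mem) hnot'
        rw [Units.val_neg, Matrix.trace_neg, hone] at e2
        rw [hone] at e1
        exact hm ((mul_eq_zero.1 (show (2 : F) * (Fintype.card ι : F) = 0 by linear_combination e1 - e2)).resolve_left h2)
      · by_contra hnot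
        have e1 := hC3 1 S.one_mem k hk (blk_mem_wreath S.one_mem hk) hnot
        have hnot' : blk ((-1 : GL ι F), k) ∉ C := fun h => hnot (by
          have := C.mul_mem hsq1 h
          rwa [← map_mul, show ((-1, 1) : GL ι F × GL ι F) * (-1, k) = (1, k) from Prod.ext (by simp) (one_mul k)] at this)
        have e2 := hC3 (-1) hS.neg_one_mem k hk (blk_mem_wreath hS.neg_one_mem hk) hnot'
        rw [Units.val_neg, Matrix.trace_neg, hone] at e2
        rw [hone] at e1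
        exact hm ((mul_eq_zero.1 (show (2 : F) * (Fintype.card ι : F) = 0 by linear_combination e1 - e2)).resolve_left h2)
    have := C.mul_mem (hkey a ha).1 (hkey b hb).2
    rwa [← map_mul, show ((a, 1) : GL ι F × GL ι F) * (1, b) = (a, b) from Prod.ext (mul_one a) (one_mul b)] at this
  · refine ⟨blk (y, y⁻¹), blk_mem_wreath hy (S.inv_mem hy), ?_⟩
    rw [← map_mul]
    refine Units.ext ?_
    have h2y : y⁻¹ * y⁻¹ = -1 := by rw [← _root_.mul_inv_rev, hyy]; simp
    rw [Units.val_neg, Units.val_one, coe_blk,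
      show (((y, y⁻¹) : GL ι F × GL ι F) * (y, y⁻¹)).1 = -1 from hyy,
      show (((y, y⁻¹) : GL ι F × GL ι F) * (y, y⁻¹)).2 = -1 from h2y]
    rw [← fromBlocks_one, fromBlocks_neg]; simp
  · obtain ⟨a, ha, hns, htr⟩ := hS.nonsq
    have hdet : ∀ g ∈ Pronormal.wreath S, ∃ d ∈ S, GeneralLinearGroup.det g = GeneralLinearGroup.det d := by
      rintro g ⟨u, hu, v, hv, rfl | rfl⟩
      · exact ⟨u * v, S.mul_mem hu hv, by rw [det_blk, map_mul]⟩
      · exact ⟨u * v * -1, S.mul_mem (S.mul_mem hu hv) hS.neg_one_mem, by rw [map_mul, det_blk, det_swp, map_mul, map_mul]⟩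
    have hneg : GeneralLinearGroup.det (-1 : GL ι F) = GeneralLinearGroup.det y * GeneralLinearGroup.det y := by
      rw [← map_mul, hyy]
    by_cases h : a.1.trace + (Fintype.card ι : F) = 0
    · refine ⟨blk (a, (-1 : GL ι F)), blk_mem_wreath ha hS.neg_one_mem, ?_, ?_⟩
      · intro g hg heq
        obtain ⟨d, hd, hgd⟩ := hdet g hg
        rw [hgd, det_blk, hneg] at heq
        refine hns (d * y⁻¹) (S.mul_mem hd (S.inv_mem hy)) ?_
        rw [map_mul, map_inv, mul_mul_mul_comm, heq, ← mul_inv, mul_inv_cancel_right]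
      · rw [trace_blk, Units.val_neg, Matrix.trace_neg, Units.val_one, Matrix.trace_one]
        intro h'
        exact hm ((mul_eq_zero.1 (show (2 : F) * (Fintype.card ι : F) = 0 by linear_combination h - h')).resolve_left h2)
    · refine ⟨blk (a, 1), blk_mem_wreath ha S.one_mem, ?_, ?_⟩
      · intro g hg heq
        obtain ⟨d, hd, hgd⟩ := hdet g hg
        rw [hgd, det_blk, map_one, mul_one] at heq
        exact hns d hd heq
      · rwa [trace_blk, Units.val_one, Matrix.trace_one]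

/-- The top step inside `SL`. -/
theorem scalar_of_normalizes_det_one [Finite F] (hm : (Fintype.card ι : F) ≠ 0) (hev : Even (Fintype.card ι))
    (h2 : (2 : F) ≠ 0) (hS : Good S) (hy : ∃ y ∈ S, y * y = -1 ∧ GeneralLinearGroup.det y = 1)
    {x : GL (ι ⊕ ι) F} (hx : Odd (orderOf x))
    (hn : ∀ g ∈ Pronormal.wreath S ⊓ (GeneralLinearGroup.det : GL (ι ⊕ ι) F →* Fˣ).ker,
      x * g * x⁻¹ ∈ Pronormal.wreath S ⊓ (GeneralLinearGroup.det : GL (ι ⊕ ι) F →* Fˣ).ker) :
    ∃ c : F, (x : Matrix (ι ⊕ ι) (ι ⊕ ι) F) = c • 1 := by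
  obtain ⟨y, hy, hyy, hy1⟩ := hy
  set T := Pronormal.wreath S ⊓ (GeneralLinearGroup.det : GL (ι ⊕ ι) F →* Fˣ).ker with hTdef
  have hneg : GeneralLinearGroup.det (-1 : GL ι F) = 1 :=
    Units.ext (by simp [Matrix.det_neg, hev.neg_one_pow])
  have hmem : ∀ a ∈ S, ∀ b ∈ S, GeneralLinearGroup.det a * GeneralLinearGroup.det b = 1 → blk (a, b) ∈ T :=
    fun a ha b hb h => ⟨blk_mem_wreath ha hb, (show GeneralLinearGroup.det (blk (a, b)) = 1 by rw [det_blk, h])⟩
  refine scalar_of_normalizes hm h2 hS inf_le_left (Subgroup.mem_inf.2 ⟨swp_mem_wreath S, MonoidHom.mem_ker.2 (show GeneralLinearGroup.det (swp : GL (ι ⊕ ι) F) = 1 by rw [det_swp, hneg])⟩ : swp ∈ T)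
    (hmem 1 S.one_mem (-1) hS.neg_one_mem (by rw [map_one, hneg, one_mul]))
    (fun a ha => ⟨a⁻¹, S.inv_mem ha, hmem a ha a⁻¹ (S.inv_mem ha) (by rw [map_inv, mul_inv_cancel])⟩) ?_ hx hn
  intro C hC2 hC1 hC3
  have hsq1 : blk ((-1 : GL ι F), (1 : GL ι F)) ∈ C := by
    have := hC2 _ (hmem y hy 1 S.one_mem (by rw [hy1, map_one, one_mul]))
    rwa [← map_mul, show ((y, 1) : GL ι F × GL ι F) * (y, 1) = (-1, 1) from Prod.ext hyy (one_mul 1)] at this
  -- outside `C` both traces vanish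
  have hzero : ∀ a ∈ S, ∀ b ∈ S, blk (a, b) ∈ T → blk (a, b) ∉ C → a.1.trace = 0 ∧ b.1.trace = 0 := by
    intro a ha b hb hab hnot
    have e1 := hC3 a ha b hb hab hnot
    have hd : GeneralLinearGroup.det a * GeneralLinearGroup.det b = 1 := by
      rw [← det_blk]; exact hab.2
    have hna : (-a) ∈ S := by
      have := S.mul_mem hS.neg_one_mem ha
      rwa [neg_one_mul] at this
    have hnot' : blk (-a, b) ∉ C := fun h => hnot (by
      have := C.mul_mem hsq1 h
      rwa [← map_mul, show ((-1, 1) : GL ι F × GL ι F) * (-a, b) = (a, b) from Prod.ext (by simp) (one_mul b)] at this)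
    have hna_det : GeneralLinearGroup.det (-a) = GeneralLinearGroup.det a := by
      rw [← neg_one_mul a, map_mul, hneg, one_mul]
    have e2 := hC3 (-a) hna b hb (hmem _ hna b hb (by rw [hna_det, hd])) hnot'
    rw [Units.val_neg, Matrix.trace_neg] at e2
    refine ⟨(mul_eq_zero.1 (show (2 : F) * a.1.trace = 0 by linear_combination e1 - e2)).resolve_left h2,
      (mul_eq_zero.1 (show (2 : F) * b.1.trace = 0 by linear_combination e1 + e2)).resolve_left h2⟩
  have hdet1 : ∀ k ∈ S, GeneralLinearGroup.det k = 1 → blk (k, 1) ∈ C ∧ blk (1, k) ∈ C := by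
    intro k hk hk1
    refine ⟨?_, ?_⟩ <;> by_contra hnot
    · exact hm (by simpa using (hzero k hk 1 S.one_mem (hmem _ hk _ S.one_mem (by rw [hk1, map_one, one_mul])) hnot).2)
    · exact hm (by simpa using (hzero 1 S.one_mem k hk (hmem _ S.one_mem _ hk (by rw [hk1, map_one, one_mul])) hnot).1)
  -- membership in `C` depends on the determinants
  have hsame : ∀ a ∈ S, ∀ b ∈ S, ∀ c ∈ S, ∀ d ∈ S, GeneralLinearGroup.det a = GeneralLinearGroup.det c →
      GeneralLinearGroup.det b = GeneralLinearGroup.det d → blk (c, d) ∈ C → blk (a, b) ∈ C := by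
    intro a ha b hb c hc d hd e1 e2 hcd
    have h1 := (hdet1 (a * c⁻¹) (S.mul_mem ha (S.inv_mem hc)) (by rw [map_mul, map_inv, e1, mul_inv_cancel])).1
    have h2 := (hdet1 (b * d⁻¹) (S.mul_mem hb (S.inv_mem hd)) (by rw [map_mul, map_inv, e2, mul_inv_cancel])).2
    have := C.mul_mem (C.mul_mem h1 h2) hcd
    rwa [← map_mul, ← map_mul, show ((a * c⁻¹, 1) : GL ι F × GL ι F) * (1, b * d⁻¹) * (c, d) = (a, b) from
      Prod.ext (by simp) (by simp)] at this
  have hsquare : ∀ a ∈ S, ∀ b ∈ S, blk (a, b) ∈ T → ∀ g ∈ S,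
      GeneralLinearGroup.det g * GeneralLinearGroup.det g = GeneralLinearGroup.det a → blk (a, b) ∈ C := by
    intro a ha b hb hab g hg hga
    have hd : GeneralLinearGroup.det a * GeneralLinearGroup.det b = 1 := by rw [← det_blk]; exact hab.2
    have h := hC2 _ (hmem g hg g⁻¹ (S.inv_mem hg) (by rw [map_inv, mul_inv_cancel]))
    rw [← map_mul] at h
    refine hsame a ha b hb (g * g) (S.mul_mem hg hg) (g⁻¹ * g⁻¹) (S.mul_mem (S.inv_mem hg) (S.inv_mem hg))
      (by rw [map_mul, hga]) ?_ h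
    rw [map_mul, map_inv, ← mul_inv, hga]
    exact eq_inv_of_mul_eq_one_right hd
  intro a ha b hb hab
  by_contra hnot
  obtain ⟨a0, ha0, hns, htr⟩ := hS.nonsq
  have h0T : blk (a0, a0⁻¹) ∈ T := hmem _ ha0 _ (S.inv_mem ha0) (by rw [map_inv, mul_inv_cancel])
  obtain ⟨g, hg, hg2⟩ : ∃ g ∈ S, GeneralLinearGroup.det g * GeneralLinearGroup.det g =
      GeneralLinearGroup.det (a * a0⁻¹) := by
    haveI : IsCyclic (S.map (GeneralLinearGroup.det : GL ι F →* Fˣ)) := inferInstance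
    obtain ⟨⟨z, hz⟩, hgen⟩ := IsCyclic.exists_generator (α := S.map (GeneralLinearGroup.det : GL ι F →* Fˣ))
    obtain ⟨z', hz', rfl⟩ := hz
    have hpow : ∀ u ∈ S, ∃ i : ℤ, GeneralLinearGroup.det u = GeneralLinearGroup.det z' ^ i := fun u hu => by
      obtain ⟨i, hi⟩ := Subgroup.mem_zpowers_iff.1 (hgen ⟨_, Subgroup.mem_map_of_mem _ hu⟩)
      exact ⟨i, (by simpa using congrArg Subtype.val hi.symm)⟩
    obtain ⟨i, hi⟩ := hpow a ha
    obtain ⟨j, hj⟩ := hpow a0 ha0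
    have hiodd : Odd i := by
      by_contra h
      obtain ⟨k, hk⟩ := Int.not_odd_iff_even.1 h
      exact hnot (hsquare a ha b hb hab (z' ^ k) (S.zpow_mem hz' k) (by rw [hi, hk, map_zpow, _root_.zpow_add]))
    have hjodd : Odd j := by
      by_contra h
      obtain ⟨k, hk⟩ := Int.not_odd_iff_even.1 h
      exact hns (z' ^ k) (S.zpow_mem hz' k) (by rw [hj, hk, map_zpow, _root_.zpow_add])
    obtain ⟨k, hk⟩ := hiodd.sub_odd hjodd
    refine ⟨z' ^ k, S.zpow_mem hz' k, ?_⟩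
    rw [map_mul, map_inv, hi, hj, map_zpow, ← _root_.zpow_add, ← hk, _root_.zpow_sub]
  have hd : GeneralLinearGroup.det a * GeneralLinearGroup.det b = 1 := by rw [← det_blk]; exact hab.2
  have hq := hsquare (a * a0⁻¹) (S.mul_mem ha (S.inv_mem ha0)) (b * a0) (S.mul_mem hb ha0)
    (hmem _ (S.mul_mem ha (S.inv_mem ha0)) _ (S.mul_mem hb ha0) (by
      rw [map_mul, map_mul, map_inv, mul_mul_mul_comm, hd, inv_mul_cancel, one_mul])) g hg hg2
  have h0not : blk (a0, a0⁻¹) ∉ C := fun h => hnot (by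
    have := C.mul_mem hq h
    rwa [← map_mul, show ((a * a0⁻¹, b * a0) : GL ι F × GL ι F) * (a0, a0⁻¹) = (a, b) from
      Prod.ext (by simp) (by simp)] at this)
  exact htr (hzero a0 ha0 a0⁻¹ (S.inv_mem ha0) h0T h0not).1

end Cfsg.Agent.Pronormal
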