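import Mathlib
import Cfsg.Agent.Lib.Pronormal.WreathTwo
import Cfsg.Agent.Lib.GL.Basic

/-!
The two bottom layers: scalar 2-groups of `GL_1` and semidihedral subgroups of `GL_2`; transport along
reindexing.
-/

set_option autoImplicit false

open Matrix

namespace Cfsg.Agent.Pronormal

variable {F : Type*} [Field F]

section Reindex

variable {ι κ : Type*} [Fintype ι] [DecidableEq ι] [Fintype κ] [DecidableEq κ]

/-- Reindexing of `GL`. -/
def glr (e : ι ≃ κ) : GL ι F ≃* GL κ F :=
  Units.mapEquiv (Matrix.reindexAlgEquiv F F e).toMulEquiv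

theorem coe_glr (e : ι ≃ κ) (g : GL ι F) :
    ((glr e g : GL κ F) : Matrix κ κ F) = (g : Matrix ι ι F).submatrix e.symm e.symm := rfl

theorem det_glr (e : ι ≃ κ) (g : GL ι F) : GeneralLinearGroup.det (glr e g) = GeneralLinearGroup.det g :=
  Units.ext (by simp [coe_glr])

theorem trace_glr (e : ι ≃ κ) (g : GL ι F) :
    ((glr e g : GL κ F) : Matrix κ κ F).trace = (g : Matrix ι ι F).trace := by
  simp [coe_glr, Matrix.trace, Equiv.sum_comp e.symm (fun i => (g : Matrix ι ι F) i i)]

theorem glr_scalar_iff (e : ι ≃ κ) (g : GL ι F) (c : F) :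
    ((glr e g : GL κ F) : Matrix κ κ F) = c • 1 ↔ (g : Matrix ι ι F) = c • 1 := by
  rw [coe_glr]
  constructor
  · intro h
    ext i j
    have := congrArg (fun M : Matrix κ κ F => M (e i) (e j)) h
    simpa [Matrix.one_apply] using this
  · intro h
    rw [h]
    ext i j
    simp [Matrix.one_apply]

theorem glr_neg_one (e : ι ≃ κ) : glr e (-1 : GL ι F) = -1 :=
  Units.ext (by ext i j; simp [coe_glr, Matrix.one_apply])

/-- `Good` is invariant under reindexing. -/
theorem Good.glr {S : Subgroup (GL ι F)} (hS : Good S) (e : ι ≃ κ) :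
    Good (S.map (Pronormal.glr e).toMonoidHom) := by
  constructor
  · exact hS.pgroup.map _
  · intro x hx
    obtain ⟨y, rfl⟩ := (Pronormal.glr e).surjective x
    obtain ⟨c, hc⟩ := hS.cent y fun a ha =>
      (Pronormal.glr e).injective (by simpa using (hx _ (Subgroup.mem_map_of_mem _ ha)).eq)
    exact ⟨c, (glr_scalar_iff e y c).2 hc⟩
  · intro x hx hn
    obtain ⟨y, rfl⟩ := (Pronormal.glr e).surjective x
    obtain ⟨c, hc⟩ := hS.norm y (by simpa using hx) fun a ha => by
      obtain ⟨b, hb, hbe⟩ := hn _ (Subgroup.mem_map_of_mem _ ha)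
      have : b = y * a * y⁻¹ := (Pronormal.glr e).injective (by simpa using hbe)
      exact this ▸ hb
    exact ⟨c, (glr_scalar_iff e y c).2 hc⟩
  · obtain ⟨y, hy, hyy⟩ := hS.sqrt
    exact ⟨_, Subgroup.mem_map_of_mem _ hy, by
      show Pronormal.glr e y * Pronormal.glr e y = -1
      rw [← map_mul, hyy, glr_neg_one]⟩
  · obtain ⟨a, ha, hns, htr⟩ := hS.nonsq
    refine ⟨_, Subgroup.mem_map_of_mem _ ha, ?_, ?_⟩
    · rintro _ ⟨b, hb, rfl⟩
      simpa [det_glr] using hns b hb
    · simpa [trace_glr] using htr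

end Reindex

section BaseOne

/-- The diagonal embedding `Fˣ → GL_1`. -/
def oneHom : Fˣ →* GL (Fin 1) F := GL.diagHom.comp (Pi.constMonoidHom (Fin 1) Fˣ)

theorem det_oneHom (d : Fˣ) : GeneralLinearGroup.det (oneHom d) = d := by
  simp [oneHom, GL.det_diagHom]

theorem oneHom_injective : Function.Injective (oneHom : Fˣ →* GL (Fin 1) F) := fun a b h => by
  rw [← det_oneHom a, h, det_oneHom]

theorem coe_oneHom (d : Fˣ) : ((oneHom d : GL (Fin 1) F) : Matrix (Fin 1) (Fin 1) F) = (d : F) • 1 := by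
  ext i j
  fin_cases i; fin_cases j
  show Matrix.diagonal (fun _ => (d : F)) 0 0 = _
  simp

theorem good_one (D : Subgroup Fˣ) (hD : IsPGroup 2 D) {i : Fˣ} (hi : i ∈ D) (hii : (i : F) * i = -1)
    {d : Fˣ} (hd : d ∈ D) (hns : ∀ b ∈ D, b * b ≠ d) : Good (D.map oneHom) := by
  have hscal : ∀ x : GL (Fin 1) F, ∃ c : F, (x : Matrix (Fin 1) (Fin 1) F) = c • 1 := fun x =>
    ⟨x.1 0 0, by ext i j; fin_cases i; fin_cases j; simp⟩
  refine ⟨hD.map _, fun x _ => hscal x, fun x _ _ => hscal x,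
    ⟨oneHom i, Subgroup.mem_map_of_mem _ hi, ?_⟩, ⟨oneHom d, Subgroup.mem_map_of_mem _ hd, ?_, ?_⟩⟩
  · refine Units.ext ?_
    rw [GeneralLinearGroup.coe_mul, coe_oneHom, Units.val_neg, Units.val_one]
    simp [smul_smul, hii]
  · rintro _ ⟨b, hb, rfl⟩
    rw [det_oneHom, det_oneHom]
    exact hns b hb
  · simp [coe_oneHom]

end BaseOne

section BaseTwo

/-- `[[u, -v], [v, u]]`. -/
def rot (u v : F) (h : u ^ 2 + v ^ 2 = -1) : GL (Fin 2) F :=
  GeneralLinearGroup.mkOfDetNeZero !![u, -v; v, u] (by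
    rw [Matrix.det_fin_two_of]
    intro e
    exact one_ne_zero (α := F) (by linear_combination h - e))

theorem coe_rot (u v : F) (h : u ^ 2 + v ^ 2 = -1) :
    ((rot u v h : GL (Fin 2) F) : Matrix (Fin 2) (Fin 2) F) = !![u, -v; v, u] := rfl

/-- `diag(1, -1)`. -/
def refl2 : GL (Fin 2) F where
  val := !![1, 0; 0, -1]
  inv := !![1, 0; 0, -1]
  val_inv := by ext i j; fin_cases i <;> fin_cases j <;> simp
  inv_val := by ext i j; fin_cases i <;> fin_cases j <;> simp

variable {u v : F} {h : u ^ 2 + v ^ 2 = -1} {k : ℕ}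

theorem det_rot : GeneralLinearGroup.det (rot u v h) = -1 := by
  refine Units.ext ?_
  rw [GeneralLinearGroup.val_det_apply, coe_rot, Matrix.det_fin_two_of, Units.val_neg, Units.val_one]
  linear_combination h

theorem det_refl2 : GeneralLinearGroup.det (refl2 : GL (Fin 2) F) = -1 := by
  refine Units.ext ?_
  rw [GeneralLinearGroup.val_det_apply, Units.val_neg, Units.val_one]
  show Matrix.det !![(1 : F), 0; 0, -1] = -1
  simp [Matrix.det_fin_two_of]

theorem refl2_mul_refl2 : (refl2 : GL (Fin 2) F) * refl2 = 1 := Units.ext (refl2 : GL (Fin 2) F).val_inv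

theorem refl2_inv : (refl2 : GL (Fin 2) F)⁻¹ = refl2 := rfl

theorem refl2_conj_rot : refl2 * rot u v h * refl2⁻¹ = -(rot u v h)⁻¹ := by
  rw [eq_comm, neg_eq_iff_eq_neg]
  refine inv_eq_of_mul_eq_one_right (Units.ext ?_)
  rw [refl2_inv, GeneralLinearGroup.coe_mul, Units.val_neg, GeneralLinearGroup.coe_mul, GeneralLinearGroup.coe_mul,
    coe_rot, Units.val_one, show ((refl2 : GL (Fin 2) F) : Matrix (Fin 2) (Fin 2) F) = !![1, 0; 0, -1] from rfl]
  ext i j
  fin_cases i <;> fin_cases j <;> simp <;> first | ring1 | linear_combination h | linear_combination -h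

/-- Facts about a rotation of order `2^k`. -/
structure IsSDData (u v : F) (h : u ^ 2 + v ^ 2 = -1) (k : ℕ) : Prop where
  three_le : 3 ≤ k
  order : orderOf (rot u v h) = 2 ^ k
  v_ne : v ≠ 0
  u_ne : u ≠ 0
  half : rot u v h ^ 2 ^ (k - 1) = -1

theorem IsSDData.refl2_mul_zpow (hd : IsSDData u v h k) (i : ℤ) :
    refl2 * rot u v h ^ i = rot u v h ^ (((2 : ℤ) ^ (k - 1) - 1) * i) * refl2 := by
  rw [_root_.zpow_mul]
  have e : refl2 * rot u v h * refl2⁻¹ = rot u v h ^ ((2 : ℤ) ^ (k - 1) - 1) := by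
    rw [refl2_conj_rot, _root_.zpow_sub, zpow_one, show ((2 : ℤ) ^ (k - 1)) = ((2 ^ (k - 1) : ℕ) : ℤ) by simp,
      zpow_natCast, hd.half, neg_one_mul]
  rw [← e, conj_zpow]
  group

/-- The semidihedral group `⟨rot, refl2⟩`. -/
def sd (hd : IsSDData u v h k) : Subgroup (GL (Fin 2) F) where
  carrier := {g | ∃ i : ℤ, g = rot u v h ^ i ∨ g = rot u v h ^ i * refl2}
  one_mem' := ⟨0, Or.inl (by simp)⟩
  mul_mem' := by
    rintro a b ⟨i, rfl | rfl⟩ ⟨j, rfl | rfl⟩
    · exact ⟨i + j, Or.inl (_root_.zpow_add _ _ _).symm⟩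
    · exact ⟨i + j, Or.inr (by rw [_root_.zpow_add, mul_assoc])⟩
    · exact ⟨i + ((2 : ℤ) ^ (k - 1) - 1) * j, Or.inr (by rw [mul_assoc, hd.refl2_mul_zpow, ← mul_assoc, ← _root_.zpow_add])⟩
    · refine ⟨i + ((2 : ℤ) ^ (k - 1) - 1) * j, Or.inl ?_⟩
      rw [mul_assoc, ← mul_assoc refl2, hd.refl2_mul_zpow, mul_assoc, refl2_mul_refl2, mul_one, ← _root_.zpow_add]
  inv_mem' := by
    rintro a ⟨i, rfl | rfl⟩
    · exact ⟨-i, Or.inl (_root_.zpow_neg _ _).symm⟩
    · exact ⟨((2 : ℤ) ^ (k - 1) - 1) * -i, Or.inr (by rw [_root_.mul_inv_rev, refl2_inv, ← _root_.zpow_neg, hd.refl2_mul_zpow])⟩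

theorem IsSDData.sq_refl_coset (hd : IsSDData u v h k) (i : ℤ) :
    (rot u v h ^ i * refl2) ^ 4 = 1 := by
  have e : (rot u v h ^ i * refl2) ^ 2 = rot u v h ^ ((2 : ℤ) ^ (k - 1) * i) := by
    rw [pow_two, mul_assoc, ← mul_assoc refl2, hd.refl2_mul_zpow, mul_assoc, refl2_mul_refl2, mul_one,
      ← _root_.zpow_add]
    congr 1; ring
  rw [show 4 = 2 * 2 from rfl, pow_mul, e, ← zpow_natCast, ← _root_.zpow_mul,
    show (2 : ℤ) ^ (k - 1) * i * ((2 : ℕ) : ℤ) = ((2 ^ k : ℕ) : ℤ) * i by
      have := hd.three_le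
      push_cast
      rw [mul_right_comm, ← pow_succ, Nat.sub_add_cancel (by omega)],
    _root_.zpow_mul, zpow_natCast, ← hd.order, pow_orderOf_eq_one, _root_.one_zpow]

theorem IsSDData.commute_refl2_ne (hd : IsSDData u v h k) : ¬ Commute (refl2 : GL (Fin 2) F) (rot u v h) := by
  intro hc
  have := congrArg (fun M : GL (Fin 2) F => (M : Matrix (Fin 2) (Fin 2) F) 1 0) hc.eq
  simp [refl2, coe_rot] at this
  exact hd.v_ne (by
    by_contra hv
    have h2 : (2 : F) = 0 := (mul_eq_zero.1 (show (2 : F) * v = 0 by linear_combination -this)).resolve_right hv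
    have hk := hd.half
    have hord := hd.order
    have h1 : (-1 : GL (Fin 2) F) = 1 := Units.ext (by
      ext i j
      fin_cases i <;> fin_cases j <;> simp <;> linear_combination -h2)
    rw [h1] at hk
    have := Nat.le_of_dvd (by positivity) (hord ▸ orderOf_dvd_of_pow_eq_one hk)
    have := Nat.pow_lt_pow_right (show 1 < 2 by norm_num) (show k - 1 < k by have := hd.three_le; omega)
    omega)

theorem IsSDData.refl2_notMem (hd : IsSDData u v h k) (i : ℤ) : refl2 ≠ rot u v h ^ i := fun e =>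
  hd.commute_refl2_ne (e ▸ (Commute.refl (rot u v h)).zpow_left i)

theorem card_sd (hd : IsSDData u v h k) : Nat.card (sd hd) = 2 ^ (k + 1) := by
  have hZ : Nat.card (Subgroup.zpowers (rot u v h)) = 2 ^ k := by rw [Nat.card_zpowers, hd.order]
  have f : Bool × Subgroup.zpowers (rot u v h) ≃ sd hd := by
    refine Equiv.ofBijective (fun p => ⟨cond p.1 (p.2.1 * refl2) p.2.1, ?_⟩) ⟨?_, ?_⟩
    · obtain ⟨i, hi⟩ := p.2.2
      have hi' : rot u v h ^ i = p.2.1 := hi
      exact ⟨i, by cases p.1 <;> simp [hi']⟩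
    · rintro ⟨a, ⟨g, hg⟩⟩ ⟨b, ⟨g', hg'⟩⟩ e
      have e' := congrArg Subtype.val e
      obtain ⟨i, rfl⟩ := hg
      obtain ⟨j, rfl⟩ := hg'
      rcases a <;> rcases b <;> simp only [cond] at e'
      · simp [e']
      · exact absurd (show refl2 = rot u v h ^ (i - j) by
          rw [show i - j = -j + i by ring, _root_.zpow_add, e', ← mul_assoc, ← _root_.zpow_add, neg_add_cancel, zpow_zero, one_mul]) (hd.refl2_notMem _)
      · exact absurd (show refl2 = rot u v h ^ (j - i) by
          rw [show j - i = -i + j by ring, _root_.zpow_add, ← e', ← mul_assoc, ← _root_.zpow_add, neg_add_cancel, zpow_zero, one_mul]) (hd.refl2_notMem _)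
      · simp [mul_right_cancel e']
    · rintro ⟨g, i, rfl | rfl⟩
      · exact ⟨(false, ⟨_, i, rfl⟩), rfl⟩
      · exact ⟨(true, ⟨_, i, rfl⟩), rfl⟩
  rw [← Nat.card_congr f, Nat.card_prod, hZ, pow_succ']
  simp

theorem det_sd (hd : IsSDData u v h k) :
    (sd hd).map (GeneralLinearGroup.det : GL (Fin 2) F →* Fˣ) = Subgroup.zpowers (-1) := by
  refine le_antisymm ?_ ?_
  · rintro _ ⟨g, ⟨i, rfl | rfl⟩, rfl⟩
    · exact ⟨i, by simp [det_rot]⟩
    · exact ⟨i + 1, by simp [det_rot, det_refl2, _root_.zpow_add]⟩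
  · exact Subgroup.zpowers_le.2 ⟨refl2, ⟨0, Or.inr (by simp)⟩, det_refl2⟩

theorem good_sd (hd : IsSDData u v h k) :
    Good (sd hd) ∧ ∃ y ∈ sd hd, y * y = -1 ∧ GeneralLinearGroup.det y = 1 := by
  set Y := rot u v h with hY
  have h3 := hd.three_le
  have hYmem : Y ∈ sd hd := ⟨1, Or.inl (zpow_one _).symm⟩
  have hsmem : refl2 ∈ sd hd := ⟨0, Or.inr (by simp)⟩
  have hpg : IsPGroup 2 (sd hd) := IsPGroup.of_card (card_sd hd)
  have hcent : ∀ x : GL (Fin 2) F, Commute x Y → Commute x refl2 → ∃ c : F, (x : Matrix (Fin 2) (Fin 2) F) = c • 1 := by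
    intro x h1 h2'
    have e1 := congrArg (fun M : GL (Fin 2) F => (M : Matrix (Fin 2) (Fin 2) F)) h1.eq
    have e2 := congrArg (fun M : GL (Fin 2) F => (M : Matrix (Fin 2) (Fin 2) F)) h2'.eq
    have h2 : (2 : F) ≠ 0 := by
      intro h0
      refine hd.commute_refl2_ne (Units.ext ?_)
      rw [GeneralLinearGroup.coe_mul, GeneralLinearGroup.coe_mul, coe_rot,
        show ((refl2 : GL (Fin 2) F) : Matrix (Fin 2) (Fin 2) F) = !![1, 0; 0, -1] from rfl]
      ext i j
      fin_cases i <;> fin_cases j <;> simp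
      · linear_combination -v * h0
      · linear_combination -v * h0
    have a01 := congrArg (fun M : Matrix (Fin 2) (Fin 2) F => M 0 1) e2
    have a10 := congrArg (fun M : Matrix (Fin 2) (Fin 2) F => M 1 0) e2
    have b10 := congrArg (fun M : Matrix (Fin 2) (Fin 2) F => M 1 0) e1
    simp [refl2, Matrix.mul_apply, Fin.sum_univ_two] at a01 a10
    simp [hY, coe_rot, Matrix.mul_apply, Fin.sum_univ_two] at b10
    have z01 : x.1 0 1 = 0 := (mul_eq_zero.1 (show (2 : F) * x.1 0 1 = 0 by linear_combination -a01)).resolve_left h2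
    have z10 : x.1 1 0 = 0 := (mul_eq_zero.1 (show (2 : F) * x.1 1 0 = 0 by linear_combination a10)).resolve_left h2
    have hdd : x.1 1 1 = x.1 0 0 := mul_left_cancel₀ hd.v_ne (by linear_combination b10)
    refine ⟨x.1 0 0, ?_⟩
    ext i j
    fin_cases i <;> fin_cases j <;> simp [z01, z10, hdd]
  have hy2 : ∃ y ∈ sd hd, y * y = -1 ∧ GeneralLinearGroup.det y = 1 := by
    refine ⟨Y ^ 2 ^ (k - 2), (sd hd).pow_mem hYmem _, ?_, ?_⟩
    · rw [← pow_add, ← two_mul, ← pow_succ', show k - 2 + 1 = k - 1 by omega, hd.half]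
    · rw [map_pow, det_rot]
      exact ((Nat.even_pow' (show k - 2 ≠ 0 by omega)).2 even_two).neg_one_pow
  refine ⟨⟨hpg, fun x hx => hcent x (hx _ hYmem) (hx _ hsmem), ?_, ?_, ?_⟩, hy2⟩
  · intro x hx hn
    obtain ⟨N, hN, hxN⟩ : ∃ N, Odd N ∧ x ^ N = 1 := ⟨_, hx, pow_orderOf_eq_one x⟩
    have hordY : (8 : ℕ) ≤ orderOf Y := by
      rw [hd.order]; exact (show 8 = 2 ^ 3 from rfl) ▸ Nat.pow_le_pow_right two_pos h3
    obtain ⟨j, hj⟩ : ∃ j : ℤ, x * Y * x⁻¹ = Y ^ j := by
      obtain ⟨j, hj | hj⟩ := hn Y hYmem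
      · exact ⟨j, hj⟩
      · exfalso
        have h4 := hd.sq_refl_coset j
        rw [← hj, conj_pow] at h4
        have : Y ^ 4 = 1 := by
          have := congrArg (fun g => x⁻¹ * g * x) h4
          simpa [mul_assoc] using this
        have := Nat.le_of_dvd (by norm_num) (orderOf_dvd_of_pow_eq_one this)
        omega
    have hiter : ∀ n : ℕ, x ^ n * Y * (x ^ n)⁻¹ = Y ^ (j ^ n) := by
      intro n
      induction n with
      | zero => simp
      | succ n ih =>
        rw [show x ^ (n + 1) * Y * (x ^ (n + 1))⁻¹ = x * (x ^ n * Y * (x ^ n)⁻¹) * x⁻¹ by rw [pow_succ']; group,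
          ih, ← conj_zpow, hj, ← _root_.zpow_mul, pow_succ']
    have hjN := hiter N
    rw [hxN, one_mul, inv_one, mul_one] at hjN
    have hdvd : ((2 ^ k : ℕ) : ℤ) ∣ j ^ N - 1 := by
      rw [← hd.order, orderOf_dvd_iff_zpow_eq_one, _root_.zpow_sub, ← hjN, zpow_one, mul_inv_cancel]
    have hjodd : Odd j := by
      have h2d : (2 : ℤ) ∣ j ^ N - 1 := dvd_trans (by push_cast; exact dvd_pow_self 2 (by omega)) hdvd
      have : Odd (j ^ N) := by
        obtain ⟨c, hc⟩ := h2d
        exact ⟨c, by omega⟩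
      exact (Int.odd_pow' hN.pos.ne').1 this
    have hj1 : ((2 ^ k : ℕ) : ℤ) ∣ j - 1 := by
      rw [← geom_sum_mul] at hdvd
      refine IsCoprime.dvd_of_dvd_mul_left ?_ hdvd
      push_cast
      refine IsCoprime.pow_left ?_
      have hsum : Odd (∑ i ∈ Finset.range N, j ^ i) := by
        have key : ∀ n : ℕ, Odd (∑ i ∈ Finset.range n, j ^ i) ↔ Odd n := by
          intro n
          induction n with
          | zero => simp
          | succ n ih =>
            rw [Finset.sum_range_succ, Int.odd_add', Nat.odd_add_one, ← Int.not_odd_iff_even, ih]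
            exact ⟨fun h => h.1 hjodd.pow, fun h => iff_of_true hjodd.pow h⟩
        exact (key N).2 hN
      obtain ⟨c, hc⟩ := hsum
      exact ⟨-c, 1, by rw [hc]; ring⟩
    have hYj : Y ^ j = Y := by
      have : Y ^ (j - 1) = 1 := by
        rw [← orderOf_dvd_iff_zpow_eq_one, hd.order]; exact hj1
      rw [_root_.zpow_sub, zpow_one, mul_inv_eq_one] at this
      exact this
    rw [hYj, mul_inv_eq_iff_eq_mul] at hj
    obtain ⟨i, hi | hi⟩ := hn refl2 hsmem
    · exfalso
      refine hd.refl2_notMem i ?_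
      have hc : Commute (Y ^ i) x := ((show Commute x Y from hj).symm.zpow_left i)
      have := congrArg (fun g => x⁻¹ * g * x) hi
      simp only [← mul_assoc, inv_mul_cancel, one_mul] at this
      rw [mul_assoc, inv_mul_cancel, mul_one] at this
      rw [this, mul_assoc, hc.eq, inv_mul_cancel_left]
    · have hit : ∀ n : ℕ, x ^ n * refl2 * (x ^ n)⁻¹ = Y ^ (i * n) * refl2 := by
        intro n
        induction n with
        | zero => simp
        | succ n ih =>
          rw [show x ^ (n + 1) * refl2 * (x ^ (n + 1))⁻¹ = x * (x ^ n * refl2 * (x ^ n)⁻¹) * x⁻¹ by rw [pow_succ']; group,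
            ih, show x * (Y ^ (i * n) * refl2) * x⁻¹ = (x * Y ^ (i * (n : ℤ)) * x⁻¹) * (x * refl2 * x⁻¹) by group,
            hi, ((show Commute x Y from hj).zpow_right _).eq, mul_inv_cancel_right, ← mul_assoc, ← _root_.zpow_add]
          congr 2; push_cast; ring
      have hN' := hit N
      rw [hxN, one_mul, inv_one, mul_one] at hN'
      have hYi : Y ^ i = 1 := by
        refine eq_one_of_odd_of_pGroup (P := Subgroup.zpowers Y) ?_ (Subgroup.zpow_mem _ (Subgroup.mem_zpowers Y) i) hN ?_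
        · exact IsPGroup.of_card (by rw [Nat.card_zpowers, hd.order])
        · rw [← zpow_natCast, ← _root_.zpow_mul]
          exact mul_right_cancel (b := refl2) (by rw [← hN', one_mul])
      rw [hYi, one_mul, mul_inv_eq_iff_eq_mul] at hi
      exact hcent x hj hi
  · obtain ⟨y, hy, hyy, -⟩ := hy2
    exact ⟨y, hy, hyy⟩
  · refine ⟨Y, hYmem, ?_, ?_⟩
    · intro b hb
      have hb' : GeneralLinearGroup.det b ∈ Subgroup.zpowers (-1 : Fˣ) := det_sd hd ▸ Subgroup.mem_map_of_mem _ hb
      obtain ⟨i, hi⟩ := hb'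
      rw [← hi, det_rot]
      show (-1 : Fˣ) ^ i * (-1) ^ i ≠ -1
      rw [← mul_zpow, neg_one_mul, neg_neg, _root_.one_zpow]
      intro e
      have h2 : (2 : F) = 0 := by
        have := congrArg Units.val e
        simp only [Units.val_one, Units.val_neg] at this
        linear_combination this
      refine hd.commute_refl2_ne (Units.ext ?_)
      rw [GeneralLinearGroup.coe_mul, GeneralLinearGroup.coe_mul, coe_rot,
        show ((refl2 : GL (Fin 2) F) : Matrix (Fin 2) (Fin 2) F) = !![1, 0; 0, -1] from rfl]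
      ext i j
      fin_cases i <;> fin_cases j <;> simp
      · linear_combination -v * h2
      · linear_combination -v * h2
    · rw [hY, coe_rot, Matrix.trace_fin_two_of]
      intro e
      have h2 : (2 : F) = 0 := (mul_eq_zero.1 (show (2 : F) * u = 0 by linear_combination e)).resolve_right hd.u_ne
      refine hd.commute_refl2_ne (Units.ext ?_)
      rw [GeneralLinearGroup.coe_mul, GeneralLinearGroup.coe_mul, coe_rot,
        show ((refl2 : GL (Fin 2) F) : Matrix (Fin 2) (Fin 2) F) = !![1, 0; 0, -1] from rfl]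
      ext i j
      fin_cases i <;> fin_cases j <;> simp
      · linear_combination -v * h2
      · linear_combination -v * h2

/-- The data from an eigenvalue `λ = u + v i` of order `2^k` in an overfield. -/
theorem isSDData_of_eigen {K : Type*} [Field K] (f : F →+* K) (h2 : (2 : F) ≠ 0) (hk : 3 ≤ k) (i lam : K)
    (hi : i * i = -1) (hlam : lam ^ 2 ^ (k - 1) = -1) (heq : f u + f v * i = lam) : IsSDData u v h k := by
  have h2K : (2 : K) ≠ 0 := fun e => h2 (f.injective (by rw [map_ofNat, map_zero, e]))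
  set Y := rot u v h
  set M : Matrix (Fin 2) (Fin 2) K := !![f u, -(f v); f v, f u] with hM
  have hYM : ∀ n : ℕ, ((Y ^ n : GL (Fin 2) F) : Matrix (Fin 2) (Fin 2) F).map f = M ^ n := by
    intro n
    rw [Units.val_pow_eq_pow_val, ← RingHom.mapMatrix_apply, map_pow]
    congr 1
    ext a b
    fin_cases a <;> fin_cases b <;> simp [Y, coe_rot, hM]
  have hmu : (f u - f v * i) * lam = -1 := by
    rw [← heq, ← map_one f, ← map_neg f, ← h, map_add, map_pow, map_pow]
    linear_combination (-(f v) ^ 2) * hi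
  have he1 : ∀ n : ℕ, (M ^ n) *ᵥ ![1, -i] = lam ^ n • ![1, -i] := by
    intro n
    induction n with
    | zero => simp
    | succ n ih =>
      rw [pow_succ, ← Matrix.mulVec_mulVec, show M *ᵥ ![1, -i] = lam • ![1, -i] from by
        ext a; fin_cases a <;> simp [hM, ← heq] <;> first | ring1 | linear_combination (f v) * hi | linear_combination -(f v) * hi,
        Matrix.mulVec_smul, ih, smul_smul, pow_succ']
  have he2 : ∀ n : ℕ, (M ^ n) *ᵥ ![1, i] = (f u - f v * i) ^ n • ![1, i] := by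
    intro n
    induction n with
    | zero => simp
    | succ n ih =>
      rw [pow_succ, ← Matrix.mulVec_mulVec, show M *ᵥ ![1, i] = (f u - f v * i) • ![1, i] from by
        ext a; fin_cases a <;> simp [hM] <;> first | ring1 | linear_combination (f v) * hi | linear_combination -(f v) * hi,
        Matrix.mulVec_smul, ih, smul_smul, pow_succ']
  have hne : ∀ n : ℕ, Y ^ n = 1 → lam ^ n = 1 := by
    intro n hn
    have h1 := he1 n
    rw [← hYM n, hn, Units.val_one, Matrix.map_one f (map_zero f) (map_one f), Matrix.one_mulVec] at h1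
    simpa using (congrFun h1 0).symm
  have hhalf : Y ^ 2 ^ (k - 1) = -1 := by
    have hev : Even (2 ^ (k - 1)) := (Nat.even_pow' (by omega)).2 even_two
    have hmun : (f u - f v * i) ^ 2 ^ (k - 1) = -1 := by
      have := congrArg (· ^ 2 ^ (k - 1)) hmu
      rw [mul_pow, hlam, hev.neg_one_pow] at this
      linear_combination -this
    have e1 := he1 (2 ^ (k - 1))
    have e2 := he2 (2 ^ (k - 1))
    rw [hlam] at e1
    rw [hmun] at e2
    have hMneg : M ^ 2 ^ (k - 1) = -1 := by
      ext a b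
      have a1 := congrFun e1 a
      have a2 := congrFun e2 a
      simp [Matrix.mulVec, dotProduct, Fin.sum_univ_two] at a1 a2
      have hi0 : i ≠ 0 := fun e => by rw [e, zero_mul] at hi; exact neg_ne_zero.2 one_ne_zero hi.symm
      fin_cases a <;> fin_cases b <;> simp at a1 a2 ⊢
      · exact mul_left_cancel₀ h2K (by linear_combination a1 + a2)
      · exact mul_left_cancel₀ (mul_ne_zero h2K hi0) (by linear_combination a2 - a1)
      · exact mul_left_cancel₀ h2K (by linear_combination a1 + a2)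
      · exact mul_left_cancel₀ (mul_ne_zero h2K hi0) (by linear_combination a2 - a1)
    refine Units.ext (Matrix.map_injective f.injective ?_)
    show ((Y ^ 2 ^ (k - 1) : GL (Fin 2) F) : Matrix (Fin 2) (Fin 2) F).map f = ((-1 : GL (Fin 2) F) : Matrix (Fin 2) (Fin 2) F).map f
    rw [hYM, hMneg, Units.val_neg, Units.val_one]
    ext a b
    simp [Matrix.one_apply, apply_ite f]
  have hord : orderOf Y = 2 ^ k := by
    obtain ⟨m, rfl⟩ : ∃ m, k = m + 1 := ⟨k - 1, by omega⟩
    haveI := Fact.mk Nat.prime_two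
    refine orderOf_eq_prime_pow (fun e => ?_) ?_
    · have := hne _ e
      rw [Nat.add_sub_cancel] at hlam
      rw [hlam] at this
      exact h2K (by linear_combination -this)
    · rw [pow_succ, pow_mul, show Y ^ 2 ^ m = -1 by simpa using hhalf, neg_one_sq]
  refine ⟨hk, hord, fun hv => ?_, fun hu => ?_, hhalf⟩
  · have h4 : Y ^ 4 = 1 := by
      refine Units.ext ?_
      rw [Units.val_pow_eq_pow_val, coe_rot, hv, Units.val_one]
      have hu2 : u ^ 2 = -1 := by rw [← h, hv]; ring
      ext a b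
      fin_cases a <;> fin_cases b <;> simp [pow_succ, Matrix.mul_apply, Fin.sum_univ_two] <;>
        linear_combination (u ^ 2 - 1) * hu2
    have := Nat.le_of_dvd (by norm_num) (orderOf_dvd_of_pow_eq_one h4)
    have := Nat.pow_le_pow_right two_pos hk
    omega
  · have h4 : Y ^ 4 = 1 := by
      refine Units.ext ?_
      rw [Units.val_pow_eq_pow_val, coe_rot, hu, Units.val_one]
      have hv2 : v ^ 2 = -1 := by rw [← h, hu]; ring
      ext a b
      fin_cases a <;> fin_cases b <;> simp [pow_succ, Matrix.mul_apply, Fin.sum_univ_two] <;>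
        linear_combination (v ^ 2 - 1) * hv2
    have := Nat.le_of_dvd (by norm_num) (orderOf_dvd_of_pow_eq_one h4)
    have := Nat.pow_le_pow_right two_pos hk
    omega

end BaseTwo

end Cfsg.Agent.Pronormal
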