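import Mathlib
import Cfsg.Prelude.Def_HallClasses
import Cfsg.Agent.Lib.Perm.SylowTwo

/-!
Subgroups containing a Sylow subgroup are pronormal as soon as the normalizer of one Sylow subgroup
normalizes all of its overgroups; pronormality passes to quotients.
-/

set_option autoImplicit false

namespace Cfsg.Agent.Pronormal

open scoped Pointwise

variable {G : Type*} [Group G]

/-- Pronormality passes down along a surjective homomorphism. -/
theorem isPronormal_of_comap {Q : Type*} [Group Q] (f : G →* Q) (hf : Function.Surjective f)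
    (H : Subgroup Q) (h : Cfsg.IsPronormal (H.comap f)) : Cfsg.IsPronormal H := by
  intro g
  obtain ⟨g, rfl⟩ := hf g
  obtain ⟨x, hx, he⟩ := h g
  have hconj : ∀ y : G, ((H.comap f).map (MulAut.conj y).toMonoidHom).map f =
      H.map (MulAut.conj (f y)).toMonoidHom := fun y => by
    rw [Subgroup.map_map, show f.comp (MulAut.conj y).toMonoidHom =
        (MulAut.conj (f y)).toMonoidHom.comp f from MonoidHom.ext fun a => by simp,
      ← Subgroup.map_map, Subgroup.map_comap_eq_self_of_surjective hf]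
  refine ⟨f x, ?_, ?_⟩
  · have := Subgroup.mem_map_of_mem f hx
    rwa [Subgroup.map_sup, hconj, Subgroup.map_comap_eq_self_of_surjective hf] at this
  · rw [← hconj, he, hconj]

variable [Finite G] {p : ℕ} [Fact p.Prime]

/-- The Sylow criterion: if the normalizer of one Sylow subgroup `P` normalizes every subgroup
containing `P`, then every subgroup of index prime to `p` is pronormal. -/
theorem isPronormal_of_normalizer_le (P : Sylow p G)
    (hN : ∀ K : Subgroup G, (P : Subgroup G) ≤ K →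
      Subgroup.normalizer ((P : Subgroup G) : Set G) ≤ Subgroup.normalizer (K : Set G))
    (H : Subgroup G) (hH : ¬ p ∣ H.index) : Cfsg.IsPronormal H := by
  obtain ⟨R⟩ : Nonempty (Sylow p H) := inferInstance
  obtain ⟨S, hS⟩ : ∃ S : Sylow p G, (S : Subgroup G) = R.1.map H.subtype := by
    refine ⟨Sylow.ofCard (R.1.map H.subtype) ?_, rfl⟩
    rw [Subgroup.card_map_of_injective H.subtype_injective, R.card_eq_multiplicity,
      ← H.card_mul_index, Nat.factorization_mul Nat.card_pos.ne' Subgroup.index_ne_zero_of_finite,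
      Finsupp.add_apply, Nat.factorization_eq_zero_of_not_dvd hH, add_zero]
  have hSH : (S : Subgroup G) ≤ H := hS ▸ Subgroup.map_subtype_le _
  refine Cfsg.Agent.Perm.isPronormal_of_normalizer_sylow_le S H hSH ?_
  obtain ⟨g, hg⟩ := MulAction.exists_smul_eq G P S
  have hmem : ∀ y, y ∈ (S : Subgroup G) ↔ g⁻¹ * y * g ∈ (P : Subgroup G) := by
    intro y
    rw [← hg]
    show y ∈ ((MulAut.conj g • P : Sylow p G) : Subgroup G) ↔ _
    rw [Sylow.pointwise_smul_def, Subgroup.mem_pointwise_smul_iff_inv_smul_mem]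
    show (MulAut.conj g)⁻¹ y ∈ _ ↔ _
    rw [MulAut.inv_apply, MulAut.conj_symm_apply]
  let K : Subgroup G := H.comap (MulAut.conj g).toMonoidHom
  have hK : ∀ y, y ∈ K ↔ g * y * g⁻¹ ∈ H := fun y => Iff.rfl
  have hPK : (P : Subgroup G) ≤ K := fun y hy => by
    refine (hK y).2 (hSH ((hmem _).2 ?_))
    rwa [show g⁻¹ * (g * y * g⁻¹) * g = y by group]
  intro x hx
  have hx' : g⁻¹ * x * g ∈ Subgroup.normalizer (K : Set G) := by
    refine hN K hPK ?_
    rw [Subgroup.mem_normalizer_iff] at hx ⊢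
    intro y
    have := hx (g * y * g⁻¹)
    rw [hmem, hmem] at this
    simpa [mul_assoc] using this
  rw [Subgroup.mem_normalizer_iff] at hx' ⊢
  intro y
  have := hx' (g⁻¹ * y * g)
  rw [hK, hK] at this
  simpa [mul_assoc] using this

/-- If every element of odd order normalizing the Sylow 2-subgroup `P` lies in the kernel of the
surjection `f`, then subgroups of odd index in the image are pronormal. -/
theorem isPronormal_of_odd_normalizer {Q : Type*} [Group Q] (f : G →* Q) (hf : Function.Surjective f)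
    (P : Sylow 2 G)
    (hP : ∀ x : G, x ∈ Subgroup.normalizer ((P : Subgroup G) : Set G) → Odd (orderOf x) → x ∈ f.ker)
    (H : Subgroup Q) (hH : Odd H.index) : Cfsg.IsPronormal H := by
  refine isPronormal_of_comap f hf H ?_
  have hidx : ¬ 2 ∣ (H.comap f).index := by
    rw [Subgroup.index_comap_of_surjective H hf, ← even_iff_two_dvd]
    exact Nat.not_even_iff_odd.2 hH
  obtain ⟨R⟩ : Nonempty (Sylow 2 (H.comap f)) := inferInstance
  obtain ⟨S, hS⟩ : ∃ S : Sylow 2 G, (S : Subgroup G) = R.1.map (H.comap f).subtype := by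
    refine ⟨Sylow.ofCard (R.1.map (H.comap f).subtype) ?_, rfl⟩
    rw [Subgroup.card_map_of_injective (H.comap f).subtype_injective, R.card_eq_multiplicity,
      ← (H.comap f).card_mul_index,
      Nat.factorization_mul Nat.card_pos.ne' Subgroup.index_ne_zero_of_finite,
      Finsupp.add_apply, Nat.factorization_eq_zero_of_not_dvd hidx, add_zero]
  have hSH : (S : Subgroup G) ≤ H.comap f := hS ▸ Subgroup.map_subtype_le _
  refine Cfsg.Agent.Perm.isPronormal_of_normalizer_sylow_le S _ hSH ?_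
  obtain ⟨g, hg⟩ := MulAction.exists_smul_eq G P S
  intro x hx
  refine Subgroup.le_normalizer ?_
  obtain ⟨k, M, hM, hkM⟩ := Nat.exists_eq_two_pow_mul_odd (orderOf_pos x).ne'
  have h1 : x ^ 2 ^ k ∈ H.comap f := by
    have hodd : Odd (orderOf (x ^ 2 ^ k)) :=
      hM.of_dvd_nat (orderOf_dvd_of_pow_eq_one (by rw [← pow_mul, ← hkM, pow_orderOf_eq_one]))
    have hconj : g⁻¹ * (x ^ 2 ^ k) * g ∈ f.ker := by
      refine hP _ ?_ ?_
      · have hx2 : x ^ 2 ^ k ∈ Subgroup.normalizer ((S : Subgroup G) : Set G) :=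
          Subgroup.pow_mem _ hx _
        have hx2' : (x ^ 2 ^ k) • S = S := Sylow.smul_eq_iff_mem_normalizer.2 hx2
        refine Sylow.smul_eq_iff_mem_normalizer.1 ?_
        rw [mul_smul, mul_smul, hg, hx2', ← hg, inv_smul_smul]
      · rw [show g⁻¹ * x ^ 2 ^ k * g = (MulAut.conj g⁻¹).toMonoidHom (x ^ 2 ^ k) by simp,
          orderOf_injective _ (MulEquiv.injective _)]
        exact hodd
    have h2 : g * (g⁻¹ * (x ^ 2 ^ k) * g) * g⁻¹ ∈ f.ker :=
      (MonoidHom.normal_ker f).conj_mem _ hconj g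
    rw [show g * (g⁻¹ * (x ^ 2 ^ k) * g) * g⁻¹ = x ^ 2 ^ k by group] at h2
    exact Subgroup.ker_le_comap f H h2
  have h2 : x ^ M ∈ H.comap f := by
    refine hSH ?_
    have hN : x ^ M ∈ Subgroup.normalizer ((S : Subgroup G) : Set G) := Subgroup.pow_mem _ hx _
    have hp : IsPGroup 2 (Subgroup.zpowers (x ^ M)) := by
      have hd : orderOf (x ^ M) ∣ 2 ^ k :=
        orderOf_dvd_of_pow_eq_one (by rw [← pow_mul, mul_comm, ← hkM, pow_orderOf_eq_one])
      obtain ⟨j, -, hj⟩ := (Nat.dvd_prime_pow Nat.prime_two).1 hd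
      exact IsPGroup.of_card (by rw [Nat.card_zpowers, hj])
    have hsup := S.isPGroup'.to_sup_of_normal_left' hp (Subgroup.zpowers_le.2 hN)
    have hle : (S : Subgroup G) ⊔ Subgroup.zpowers (x ^ M) ≤ S := le_of_eq (S.is_maximal' hsup le_sup_left)
    exact hle (Subgroup.mem_sup_right (Subgroup.mem_zpowers _))
  have hcop : Nat.gcd (2 ^ k) M = 1 := Nat.Coprime.pow_left k (Nat.coprime_two_left.2 hM)
  have hb := Nat.gcd_eq_gcd_ab (2 ^ k) M
  rw [hcop] at hb
  have hx3 : x = (x ^ 2 ^ k) ^ Nat.gcdA (2 ^ k) M * (x ^ M) ^ Nat.gcdB (2 ^ k) M := by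
    rw [← zpow_natCast x, ← zpow_natCast x, ← zpow_mul, ← zpow_mul, ← zpow_add, ← hb]
    simp
  rw [hx3]
  exact mul_mem (zpow_mem h1 _) (zpow_mem h2 _)

end Cfsg.Agent.Pronormal
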