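import Mathlib

/-!
2-parts of `∏ (q^i - 1)` and `∏ (q^i - (-1)^i)`.
-/

set_option autoImplicit false

namespace Cfsg.Agent.Pronormal

open Nat

/-- 2-adic valuation. -/
abbrev v2 (n : ℕ) : ℕ := padicValNat 2 n

theorem v2_odd_pow_sub_one {q m : ℕ} (hq : 1 < q) (hqo : Odd q) (hm : Odd m) :
    v2 (q ^ m - 1) = v2 (q - 1) := by
  have h := Nat.geomSum_eq (show 2 ≤ q by omega) m
  have hdiv : (q - 1) ∣ q ^ m - 1 := by simpa using Nat.sub_dvd_pow_sub_pow q 1 m
  have hodd : Odd (∑ i ∈ Finset.range m, q ^ i) := by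
    rw [Finset.odd_sum_iff_odd_card_odd]
    rw [Finset.filter_true_of_mem fun i _ => hqo.pow, Finset.card_range]
    exact hm
  obtain ⟨c, hc⟩ := hdiv
  have hne : q ^ m - 1 ≠ 0 := by
    have := Nat.one_lt_pow (show m ≠ 0 by rintro rfl; simp at hm) hq
    omega
  rw [hc] at h hne ⊢
  rw [Nat.mul_div_cancel_left _ (show 0 < q - 1 by omega)] at h
  show padicValNat 2 ((q - 1) * c) = padicValNat 2 (q - 1)
  rw [padicValNat.mul (by omega) (right_ne_zero_of_mul hne),
    padicValNat.eq_zero_of_not_dvd (n := c) ?_, add_zero]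
  rw [← h]
  exact hodd.not_two_dvd_nat

theorem v2_odd_pow_add_one {q m : ℕ} (hq : 1 < q) (hqo : Odd q) (hm : Odd m) :
    v2 (q ^ m + 1) = v2 (q + 1) := by
  have hne1 : q ^ m - 1 ≠ 0 := by
    have := Nat.one_lt_pow (show m ≠ 0 by rintro rfl; simp at hm) hq
    omega
  have hne2 : q ^ m + 1 ≠ 0 := by omega
  have hm0 : m ≠ 0 := by rintro rfl; simp at hm
  have h := padicValNat.pow_two_sub_one hq hqo.not_two_dvd_nat (show 2 * m ≠ 0 by omega) (even_two_mul m)
  have e : q ^ (2 * m) - 1 = (q ^ m + 1) * (q ^ m - 1) := by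
    rw [mul_comm 2 m, pow_mul, ← Nat.sq_sub_sq, one_pow]
  rw [e, padicValNat.mul hne2 hne1, padicValNat.mul (by norm_num) hm0,
    padicValNat.eq_zero_of_not_dvd hm.not_two_dvd_nat, show padicValNat 2 2 = 1 from padicValNat.self one_lt_two] at h
  have := v2_odd_pow_sub_one hq hqo hm
  simp only [v2] at this ⊢
  omega

theorem v2_even_pow_sub_one {q j : ℕ} (hq : 1 < q) (hqo : Odd q) (hj : j ≠ 0) :
    v2 (q ^ (2 * j) - 1) = v2 (q + 1) + v2 (q - 1) + v2 j := by
  have h := padicValNat.pow_two_sub_one hq hqo.not_two_dvd_nat (show 2 * j ≠ 0 by omega) (even_two_mul j)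
  rw [padicValNat.mul (by norm_num) hj, show padicValNat 2 2 = 1 from padicValNat.self one_lt_two] at h
  simp only [v2]
  omega

/-- `v₂ ((2^l)!) + 1 = 2^l`. -/
theorem v2_factorial_two_pow (l : ℕ) : v2 (2 ^ l)! + 1 = 2 ^ l := by
  induction l with
  | zero => simp
  | succ l ih =>
    simp only [v2] at ih ⊢
    rw [pow_succ', padicValNat_factorial_mul]
    omega

/-- Valuation of a product over `1, …, 2m` whose odd terms have valuation `a` and whose term `2j`
has valuation `b + v₂ j`. -/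
theorem v2_prod (f : ℕ → ℕ) (a b : ℕ) (h0 : ∀ i, f i ≠ 0)
    (hodd : ∀ j, v2 (f (2 * j)) = a) (heven : ∀ j, v2 (f (2 * j + 1)) = b + v2 (j + 1)) (m : ℕ) :
    v2 (∏ i ∈ Finset.range (2 * m), f i) = m * a + m * b + v2 m ! := by
  induction m with
  | zero => simp
  | succ m ih =>
    have hp : ∏ i ∈ Finset.range (2 * m), f i ≠ 0 := Finset.prod_ne_zero_iff.2 fun i _ => h0 i
    rw [show 2 * (m + 1) = 2 * m + 1 + 1 by ring, Finset.prod_range_succ, Finset.prod_range_succ,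
      Nat.factorial_succ]
    simp only [v2] at ih hodd heven ⊢
    rw [padicValNat.mul (mul_ne_zero hp (h0 _)) (h0 _), padicValNat.mul hp (h0 _), ih, hodd, heven,
      padicValNat.mul (Nat.succ_ne_zero m) (Nat.factorial_ne_zero m)]
    ring

/-- The `2`-part of `|GL_n(q)|`, prime to `q` part, for `n = 2^(l+1)`. -/
theorem v2_prod_GL {q : ℕ} (hq : 1 < q) (hqo : Odd q) (l : ℕ) :
    v2 (∏ i ∈ Finset.Ico 1 (2 ^ (l + 1) + 1), (q ^ i - 1)) + 1 =
      2 ^ l * (2 * v2 (q - 1) + v2 (q + 1) + 1) := by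
  rw [Finset.prod_Ico_eq_prod_range, Nat.add_sub_cancel, pow_succ']
  rw [v2_prod (fun i => q ^ (1 + i) - 1) (v2 (q - 1)) (v2 (q + 1) + v2 (q - 1))]
  · have := v2_factorial_two_pow l
    ring_nf
    ring_nf at this
    omega
  · intro i
    have := Nat.one_lt_pow (show 1 + i ≠ 0 by omega) hq
    omega
  · exact fun j => v2_odd_pow_sub_one hq hqo ⟨j, by ring⟩
  · intro j
    rw [show 1 + (2 * j + 1) = 2 * (j + 1) by ring]
    exact v2_even_pow_sub_one hq hqo (Nat.succ_ne_zero j)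

/-- The `2`-part of `|GU_n(q)|` for `n = 2^(l+1)`. -/
theorem v2_prod_GU {q : ℕ} (hq : 1 < q) (hqo : Odd q) (l : ℕ) :
    v2 (∏ i ∈ Finset.range (2 ^ (l + 1)), (if Even i then q ^ (i + 1) + 1 else q ^ (i + 1) - 1)) + 1 =
      2 ^ l * (2 * v2 (q + 1) + v2 (q - 1) + 1) := by
  rw [pow_succ']
  rw [v2_prod _ (v2 (q + 1)) (v2 (q + 1) + v2 (q - 1))]
  · have := v2_factorial_two_pow l
    ring_nf
    ring_nf at this
    omega
  · intro i
    have := Nat.one_lt_pow (show i + 1 ≠ 0 by omega) hq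
    split_ifs <;> omega
  · intro j
    rw [if_pos (even_two_mul j)]
    exact v2_odd_pow_add_one hq hqo ⟨j, rfl⟩
  · intro j
    rw [if_neg (by simp [Nat.even_add_one]), show 2 * j + 1 + 1 = 2 * (j + 1) by ring]
    exact v2_even_pow_sub_one hq hqo (Nat.succ_ne_zero j)

end Cfsg.Agent.Pronormal
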