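import Mathlib
import Cfsg.Agent.Lib.Pronormal.Bases
import Cfsg.Agent.Lib.Pronormal.TwoParts
import Cfsg.Agent.Lib.Pronormal.Basic

/-!
The tower of Sylow 2-subgroups of a family of matrix groups in dimensions `2^j`, and pronormality of
odd index subgroups of central quotients of the determinant one part.
-/

set_option autoImplicit false

open Matrix

namespace Cfsg.Agent.Pronormal

variable {F : Type*} [Field F]

/-- The doubling of the dimension. -/
def dbl (m : ℕ) : Fin m ⊕ Fin m ≃ Fin (2 * m) := finSumFinEquiv.trans (finCongr (two_mul m).symm)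

/-- A family of matrix groups closed under the wreath construction. -/
structure Family (F : Type*) [Field F] where
  /-- the group in dimension `m` -/
  G : (m : ℕ) → Subgroup (GL (Fin m) F)
  blk_mem : ∀ (m : ℕ) (a b : GL (Fin m) F), a ∈ G m → b ∈ G m → glr (dbl m) (blk (a, b)) ∈ G (2 * m)
  swp_mem : ∀ m : ℕ, glr (dbl m) swp ∈ G (2 * m)

/-- What is known about each layer of the tower. -/
structure Layer (Fam : Family F) (D : Subgroup Fˣ) (m e : ℕ) (S : Subgroup (GL (Fin m) F)) : Prop where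
  le : S ≤ Fam.G m
  good : Good S
  card : Nat.card S = 2 ^ e
  det : S.map (GeneralLinearGroup.det : GL (Fin m) F →* Fˣ) = D

theorem Layer.step {Fam : Family F} {D : Subgroup Fˣ} {m e : ℕ} {S : Subgroup (GL (Fin m) F)}
    (hm : (m : F) ≠ 0) (h2 : (2 : F) ≠ 0) (hS : Layer Fam D m e S) :
    Layer Fam D (2 * m) (2 * e + 1) ((wreath S).map (glr (dbl m)).toMonoidHom) ∧
      ∃ y ∈ (wreath S).map (glr (dbl m)).toMonoidHom, y * y = -1 ∧ GeneralLinearGroup.det y = 1 := by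
  have hm0 : m ≠ 0 := fun e => hm (by simp [e])
  haveI : Nonempty (Fin m) := ⟨⟨0, Nat.pos_of_ne_zero hm0⟩⟩
  obtain ⟨y, hy, hyy⟩ := hS.good.sqrt
  refine ⟨⟨?_, (hS.good.wreath (by simpa using hm) h2).glr _, ?_, ?_⟩, ?_⟩
  · rintro _ ⟨g, ⟨a, ha, b, hb, rfl | rfl⟩, rfl⟩
    · exact Fam.blk_mem m a b (hS.le ha) (hS.le hb)
    · rw [map_mul]
      exact mul_mem (Fam.blk_mem m a b (hS.le ha) (hS.le hb)) (Fam.swp_mem m)
  · rw [Subgroup.card_map_of_injective (f := (glr (dbl m)).toMonoidHom) (glr (dbl m)).injective, card_wreath, hS.card, pow_succ' 2 (2 * e),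
      mul_comm 2 e, pow_mul]
  · refine le_antisymm ?_ ?_
    · rintro _ ⟨_, ⟨g, ⟨a, ha, b, hb, rfl | rfl⟩, rfl⟩, rfl⟩
      · rw [← hS.det]
        exact ⟨a * b, S.mul_mem ha hb, by simp [det_glr, det_blk]⟩
      · rw [← hS.det]
        exact ⟨a * b * -1, S.mul_mem (S.mul_mem ha hb) hS.good.neg_one_mem, by
          simp only [MulEquiv.coe_toMonoidHom, det_glr, map_mul, det_blk, det_swp]⟩
    · rw [← hS.det]
      rintro _ ⟨a, ha, rfl⟩
      exact ⟨_, ⟨_, blk_mem_wreath ha S.one_mem, rfl⟩, by simp [det_glr, det_blk]⟩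
  · refine ⟨_, Subgroup.mem_map_of_mem _ (blk_mem_wreath hy (S.inv_mem hy)), ?_, ?_⟩
    · show glr (dbl m) (blk (y, y⁻¹)) * glr (dbl m) (blk (y, y⁻¹)) = -1
      rw [← map_mul, ← map_mul, ← glr_neg_one (dbl m)]
      congr 1
      have h2y : y⁻¹ * y⁻¹ = -1 := by rw [← _root_.mul_inv_rev, hyy]; simp
      refine Units.ext ?_
      rw [coe_blk, Units.val_neg, Units.val_one,
        show (((y, y⁻¹) : GL (Fin m) F × GL (Fin m) F) * (y, y⁻¹)).1 = -1 from hyy,
        show (((y, y⁻¹) : GL (Fin m) F × GL (Fin m) F) * (y, y⁻¹)).2 = -1 from h2y]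
      rw [← fromBlocks_one, fromBlocks_neg]; simp
    · simp [det_glr, det_blk]

/-- All layers above dimension two. -/
theorem exists_layer (Fam : Family F) (D : Subgroup Fˣ) (h2 : (2 : F) ≠ 0) (C : ℕ) (hC : 1 ≤ C)
    (hbase : ∃ S : Subgroup (GL (Fin 2) F), Layer Fam D 2 (C - 1) S ∧
      ∃ y ∈ S, y * y = -1 ∧ GeneralLinearGroup.det y = 1) (j : ℕ) :
    ∀ n : ℕ, n = 2 ^ (j + 1) → ∃ S : Subgroup (GL (Fin n) F), Layer Fam D n (2 ^ j * C - 1) S ∧
      ∃ y ∈ S, y * y = -1 ∧ GeneralLinearGroup.det y = 1 := by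
  induction j with
  | zero => intro n hn; obtain rfl : n = 2 := by simpa using hn
            simpa using hbase
  | succ j ih =>
    intro n hn
    obtain rfl : n = 2 * 2 ^ (j + 1) := by rw [hn, pow_succ']
    obtain ⟨S, hS, -⟩ := ih _ rfl
    have hne : ((2 ^ (j + 1) : ℕ) : F) ≠ 0 := by rw [Nat.cast_pow]; exact pow_ne_zero _ (by simpa using h2)
    obtain ⟨hL, hy⟩ := hS.step hne h2
    have hpos : 1 ≤ 2 ^ j * C := Nat.one_le_iff_ne_zero.2 (Nat.mul_ne_zero (pow_ne_zero _ two_ne_zero) (by omega))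
    have e : 2 * (2 ^ j * C - 1) + 1 = 2 ^ (j + 1) * C - 1 := by rw [pow_succ']; ring_nf; ring_nf at hpos; omega
    exact ⟨_, e ▸ hL, hy⟩

/-- Pronormality of odd index subgroups of a central quotient of the determinant one part of a
family in dimension `2^(j+2)`. -/
theorem isPronormal_of_family [Finite F] (Fam : Family F) (D : Subgroup Fˣ) (h2 : (2 : F) ≠ 0)
    (C : ℕ) (hC : 1 ≤ C) (a : ℕ) (hD : Nat.card D = 2 ^ a)
    (hbase : ∃ S : Subgroup (GL (Fin 2) F), Layer Fam D 2 (C - 1) S ∧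
      ∃ y ∈ S, y * y = -1 ∧ GeneralLinearGroup.det y = 1)
    (j n : ℕ) (hn : n = 2 ^ (j + 2)) {G : Type*} [Group G] [Finite G] (ρ : G →* GL (Fin n) F)
    (hρ : Function.Injective ρ)
    (hrange : ρ.range = Fam.G n ⊓ (GeneralLinearGroup.det : GL (Fin n) F →* Fˣ).ker)
    (hcard : (Nat.card G).factorization 2 + a = 2 ^ (j + 1) * C - 1)
    {Q : Type*} [Group Q] (f : G →* Q) (hf : Function.Surjective f) (hker : Subgroup.center G ≤ f.ker)
    (H : Subgroup Q) (hH : Odd H.index) : Cfsg.IsPronormal H := by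
  obtain rfl : n = 2 * 2 ^ (j + 1) := by rw [hn, pow_succ']
  obtain ⟨S, hS, hy⟩ := exists_layer Fam D h2 C hC hbase j _ rfl
  have hne : ((2 ^ (j + 1) : ℕ) : F) ≠ 0 := by rw [Nat.cast_pow]; exact pow_ne_zero _ (by simpa using h2)
  obtain ⟨hL, -⟩ := hS.step hne h2
  set e := dbl (2 ^ (j + 1))
  set W := (wreath S).map (glr e).toMonoidHom with hW
  set T₀ := W ⊓ (GeneralLinearGroup.det : GL (Fin (2 * 2 ^ (j + 1))) F →* Fˣ).ker with hT₀
  set T := T₀.comap ρ with hTdef
  have hT₀le : T₀ ≤ ρ.range := hrange ▸ inf_le_inf_right _ hL.le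
  have hTmap : T.map ρ = T₀ := Subgroup.map_comap_eq_self hT₀le
  have hcardT : Nat.card T * Nat.card D = Nat.card W := by
    rw [← Subgroup.card_map_of_injective hρ (K := T), hTmap]
    have h := Subgroup.card_eq_card_quotient_mul_card_subgroup
      ((GeneralLinearGroup.det : GL (Fin (2 * 2 ^ (j + 1))) F →* Fˣ).comp W.subtype).ker
    rw [Nat.card_congr (QuotientGroup.quotientKerEquivRange _).toEquiv, MonoidHom.range_comp, Subgroup.range_subtype,
      hL.det] at h
    rw [h, mul_comm, ← Subgroup.card_map_of_injective W.subtype_injective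
      (K := ((GeneralLinearGroup.det : GL (Fin (2 * 2 ^ (j + 1))) F →* Fˣ).comp W.subtype).ker)]
    congr 2
    rw [← MonoidHom.comap_ker, ← Subgroup.subgroupOf, Subgroup.subgroupOf_map_subtype, inf_comm]
  have hT2 : Nat.card T = 2 ^ ((Nat.card G).factorization 2) := by
    haveI : Fact (Nat.Prime 2) := ⟨Nat.prime_two⟩
    have hC2 : 1 ≤ 2 ^ j * C := Nat.one_le_iff_ne_zero.2 (Nat.mul_ne_zero (pow_ne_zero _ two_ne_zero) (by omega))
    have e1 : 2 * (2 ^ j * C - 1) + 1 = (Nat.card G).factorization 2 + a := by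
      rw [hcard, pow_succ']; ring_nf; ring_nf at hC2; omega
    rw [hD, hL.card, e1, pow_add] at hcardT
    exact Nat.eq_of_mul_eq_mul_right (by positivity) hcardT
  haveI : Fact (Nat.Prime 2) := ⟨Nat.prime_two⟩
  refine isPronormal_of_odd_normalizer f hf (Sylow.ofCard T hT2) ?_ H hH
  intro x hx hodd
  refine hker (Subgroup.mem_center_iff.2 fun g => hρ ?_)
  set x' : GL (Fin (2 ^ (j + 1)) ⊕ Fin (2 ^ (j + 1))) F := (glr e).symm (ρ x) with hx'def
  obtain ⟨c, hc⟩ : ∃ c : F, (x' : Matrix (Fin (2 ^ (j + 1)) ⊕ Fin (2 ^ (j + 1))) (Fin (2 ^ (j + 1)) ⊕ Fin (2 ^ (j + 1))) F) = c • 1 := by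
    refine scalar_of_normalizes_det_one (by simpa using hne) ?_ h2 hS.good hy ?_ ?_
    · rw [Fintype.card_fin]; exact (Nat.even_pow' (Nat.succ_ne_zero j)).2 even_two
    · refine hodd.of_dvd_nat ?_
      rw [hx'def]
      exact (orderOf_map_dvd (glr e).symm.toMonoidHom (ρ x)).trans (orderOf_map_dvd ρ x)
    · intro g hg
      have hgT : glr e g ∈ T₀ := ⟨Subgroup.mem_map_of_mem _ hg.1, MonoidHom.mem_ker.2 (by rw [det_glr]; exact hg.2)⟩
      obtain ⟨t, ht⟩ := hT₀le hgT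
      have htT : t ∈ T := by show ρ t ∈ T₀; rw [ht]; exact hgT
      have hxt : x * t * x⁻¹ ∈ T := (Subgroup.mem_normalizer_iff.1 hx t).1 htT
      have hmem : glr e (x' * g * x'⁻¹) ∈ T₀ := by
        have hxt' : ρ (x * t * x⁻¹) ∈ T₀ := hxt
        rw [map_mul, map_mul, map_inv, ht] at hxt'
        simpa [hx'def] using hxt'
      obtain ⟨g', hg', hge⟩ := hmem.1
      refine ⟨((glr e).injective hge : g' = x' * g * x'⁻¹) ▸ hg', MonoidHom.mem_ker.2 ?_⟩
      rw [← det_glr e]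
      exact hmem.2
  rw [map_mul, map_mul]
  refine (commute_scalar (c := c) ?_ (ρ g)).symm.eq
  rw [← glr_scalar_iff e] at hc
  simpa [hx'def] using hc

end Cfsg.Agent.Pronormal
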