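import Mathlib
import Cfsg.Agent.Lib.Pronormal.Tower

/-!
The dimension two layer: from a cyclic 2-group of scalars containing a square root of `-1`, or from
semidihedral data.
-/

set_option autoImplicit false

open Matrix

namespace Cfsg.Agent.Pronormal

variable {F : Type*} [Field F]

theorem neg_one_of_sq {x : Fˣ} (h : x * x = 1) (hx : x ≠ 1) : x = -1 := by
  have h' : (x : F) * x = 1 := by simpa using congrArg Units.val h
  rcases mul_self_eq_one_iff.1 h' with e | e
  · exact absurd (Units.ext e) hx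
  · exact Units.ext (by simpa using e)

/-- The bottom layer when `4` divides the order of `K`. -/
theorem exists_base_one [Finite F] (Fam : Family F) (h2 : (2 : F) ≠ 0) (K : Subgroup Fˣ)
    (hK : ∀ d ∈ K, oneHom d ∈ Fam.G 1) {a : ℕ} (ha : (Nat.card K).factorization 2 = a) (h4 : 2 ≤ a) :
    ∃ D : Subgroup Fˣ, Nat.card D = 2 ^ a ∧ ∃ S : Subgroup (GL (Fin 2) F),
      Layer Fam D 2 (2 * a + 1) S ∧ ∃ y ∈ S, y * y = -1 ∧ GeneralLinearGroup.det y = 1 := by
  haveI : Fact (Nat.Prime 2) := ⟨Nat.prime_two⟩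
  obtain ⟨P⟩ : Nonempty (Sylow 2 K) := inferInstance
  set D : Subgroup Fˣ := (P : Subgroup K).map K.subtype with hD
  have hcard : Nat.card D = 2 ^ a := by
    rw [hD, Subgroup.card_map_of_injective K.subtype_injective, P.card_eq_multiplicity, ha]
  refine ⟨D, hcard, ?_⟩
  obtain ⟨g, hg⟩ := IsCyclic.exists_ofOrder_eq_natCard (α := D)
  rw [hcard] at hg
  have hgo : orderOf (g : Fˣ) = 2 ^ a := by rw [Subgroup.orderOf_coe, hg]
  set i : Fˣ := (g : Fˣ) ^ 2 ^ (a - 2) with hi
  have hi4 : orderOf i = 4 := by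
    rw [hi, orderOf_pow' _ (by positivity), hgo, Nat.gcd_eq_right (pow_dvd_pow 2 (Nat.sub_le a 2)),
      Nat.pow_div (Nat.sub_le a 2) two_pos, show a - (a - 2) = 2 by omega]
    rfl
  have hii : i * i = -1 := by
    refine neg_one_of_sq ?_ ?_
    · rw [← pow_two, ← pow_two, ← pow_mul]
      rw [show 2 * 2 = orderOf i by rw [hi4]]
      exact pow_orderOf_eq_one i
    · intro e
      rw [← pow_two] at e
      have := Nat.le_of_dvd two_pos (orderOf_dvd_of_pow_eq_one e)
      omega
  have hgood := good_one D (P.isPGroup'.map _) (D.pow_mem g.2 _ : i ∈ D)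
    (by have := congrArg Units.val hii; rwa [Units.val_mul, Units.val_neg, Units.val_one] at this) g.2 (fun b hb e => by
      obtain ⟨m, hm⟩ : ∃ m, a = m + 1 := ⟨a - 1, by omega⟩
      have hb' : b ^ 2 ^ a = 1 := by
        have := pow_card_eq_one' (G := D) (x := ⟨b, hb⟩)
        rw [hcard] at this
        simpa using congrArg Subtype.val this
      have : (g : Fˣ) ^ 2 ^ m = 1 := by
        rw [← e, ← pow_two, ← pow_mul, ← pow_succ', ← hm, hb']
      have := Nat.le_of_dvd (by positivity) (hgo ▸ orderOf_dvd_of_pow_eq_one this)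
      rw [hm, pow_succ] at this
      have : 0 < 2 ^ m := by positivity
      omega)
  have hL : Layer Fam D 1 a (D.map oneHom) := by
    refine ⟨?_, hgood, ?_, ?_⟩
    · rintro _ ⟨d, hd, rfl⟩
      exact hK d (Subgroup.map_subtype_le _ hd)
    · rw [Subgroup.card_map_of_injective oneHom_injective, hcard]
    · ext x
      constructor
      · rintro ⟨_, ⟨d, hd, rfl⟩, rfl⟩
        rwa [det_oneHom]
      · exact fun hx => ⟨_, ⟨x, hx, rfl⟩, det_oneHom x⟩
  obtain ⟨h1, hy⟩ := hL.step (by simp) h2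
  exact ⟨_, h1, hy⟩

/-- The bottom layer from semidihedral data. -/
theorem exists_base_sd (Fam : Family F) (h2 : (2 : F) ≠ 0) {u v : F} {h : u ^ 2 + v ^ 2 = -1} {k : ℕ}
    (hd : IsSDData u v h k) (hrot : rot u v h ∈ Fam.G 2) (hrefl : refl2 ∈ Fam.G 2) :
    ∃ D : Subgroup Fˣ, Nat.card D = 2 ^ 1 ∧ ∃ S : Subgroup (GL (Fin 2) F),
      Layer Fam D 2 (k + 1) S ∧ ∃ y ∈ S, y * y = -1 ∧ GeneralLinearGroup.det y = 1 := by
  obtain ⟨hgood, hy⟩ := good_sd hd
  refine ⟨Subgroup.zpowers (-1), ?_, sd hd, ⟨?_, hgood, card_sd hd, det_sd hd⟩, hy⟩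
  · rw [Nat.card_zpowers, pow_one]
    refine orderOf_eq_prime (by simp) fun e => h2 ?_
    have := congrArg Units.val e
    simp only [Units.val_one, Units.val_neg] at this
    linear_combination -this
  · rintro g ⟨i, rfl | rfl⟩
    · exact Subgroup.zpow_mem _ hrot i
    · exact mul_mem (Subgroup.zpow_mem _ hrot i) hrefl

end Cfsg.Agent.Pronormal
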