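import Mathlib
import Cfsg.Agent.Lib.GL.Sylow
import Cfsg.Agent.Lib.FlagChar.Bruhat
import Cfsg.Agent.Lib.Pronormal.Basic

/-!
Subgroups of a split matrix group containing its unitriangular part are normalized by its diagonal part.
-/

set_option autoImplicit false

open Matrix

namespace Cfsg.Agent.Pronormal

variable {F : Type*} [Field F] {n : ℕ}

/-- `g` is monomial with underlying permutation `π`. -/
def IsMono (g : GL (Fin n) F) (π : Equiv.Perm (Fin n)) : Prop :=
  ∀ i j, i ≠ π j → (g : Matrix (Fin n) (Fin n) F) i j = 0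

/-- The weight `∑ i, i · π i`, maximal at the identity. -/
def weight (π : Equiv.Perm (Fin n)) : ℕ := ∑ i : Fin n, (i : ℕ) * (π i : ℕ)

theorem weight_le (π : Equiv.Perm (Fin n)) : weight π ≤ n * (n * n) := by
  have h : weight π ≤ ∑ _i : Fin n, n * n :=
    Finset.sum_le_sum fun i _ => Nat.mul_le_mul i.2.le (π i).2.le
  simpa using h

theorem weight_mul_swap (π : Equiv.Perm (Fin n)) {a b : Fin n} (hab : a < b) (hπ : π b < π a) :
    weight π < weight (π * Equiv.swap a b) := by
  unfold weight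
  rw [← Finset.sum_sdiff (Finset.subset_univ ({a, b} : Finset (Fin n))),
    ← Finset.sum_sdiff (Finset.subset_univ ({a, b} : Finset (Fin n))),
    Finset.sum_pair hab.ne, Finset.sum_pair hab.ne]
  have hrest : ∀ i ∈ Finset.univ \ ({a, b} : Finset (Fin n)),
      (i : ℕ) * ((π * Equiv.swap a b) i : ℕ) = (i : ℕ) * (π i : ℕ) := by
    intro i hi
    simp only [Finset.mem_sdiff, Finset.mem_insert, Finset.mem_singleton, not_or] at hi
    rw [Equiv.Perm.mul_apply, Equiv.swap_apply_of_ne_of_ne hi.2.1 hi.2.2]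
  rw [Finset.sum_congr rfl hrest]
  simp only [Equiv.Perm.mul_apply, Equiv.swap_apply_left, Equiv.swap_apply_right]
  refine Nat.add_lt_add_left ?_ _
  obtain ⟨u, hu⟩ := Nat.exists_eq_add_of_lt (Fin.lt_def.1 hab)
  obtain ⟨v, hv⟩ := Nat.exists_eq_add_of_lt (Fin.lt_def.1 hπ)
  rw [hu, hv]
  nlinarith

theorem exists_descent {π : Equiv.Perm (Fin n)} (h : π ≠ 1) :
    ∃ i j : Fin n, (j : ℕ) = i + 1 ∧ π j < π i := by
  obtain ⟨m, rfl⟩ : ∃ m, n = m + 1 := by
    cases n with
    | zero => exact absurd (Equiv.ext fun i => i.elim0) h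
    | succ m => exact ⟨m, rfl⟩
  by_contra H
  push Not at H
  have hmono : StrictMono π := by
    rw [Fin.strictMono_iff_lt_succ]
    intro i
    exact lt_of_le_of_ne (H i.castSucc i.succ (by simp))
      (fun e => (Fin.castSucc_lt_succ (i := i)).ne (π.injective e))
  refine h (Equiv.ext fun i => ?_)
  have := Subsingleton.elim (hmono.orderIsoOfSurjective π π.surjective) (OrderIso.refl _)
  exact congrArg (fun e : Fin (m + 1) ≃o Fin (m + 1) => e i) this

theorem IsMono.apply_ne_zero {g : GL (Fin n) F} {π : Equiv.Perm (Fin n)} (h : IsMono g π) (j : Fin n) :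
    (g : Matrix (Fin n) (Fin n) F) (π j) j ≠ 0 := by
  intro h0
  refine (g.isUnit.map Matrix.detMonoidHom).ne_zero (Matrix.det_eq_zero_of_column_eq_zero j fun i => ?_)
  by_cases hi : i = π j
  · rw [hi, h0]
  · exact h i j hi

theorem IsMono.mul {g g' : GL (Fin n) F} {π π' : Equiv.Perm (Fin n)} (h : IsMono g π) (h' : IsMono g' π') :
    IsMono (g * g') (π * π') := by
  intro i j hij
  rw [GeneralLinearGroup.coe_mul, Matrix.mul_apply]
  refine Finset.sum_eq_zero fun k _ => ?_
  by_cases hk : k = π' j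
  · rw [h i k (by rw [hk]; exact hij), zero_mul]
  · rw [h' k j hk, mul_zero]

theorem isMono_one : IsMono (1 : GL (Fin n) F) 1 := by
  intro i j h
  simp [Matrix.one_apply_ne (show i ≠ j from h)]

theorem IsMono.inv {g : GL (Fin n) F} {π : Equiv.Perm (Fin n)} (h : IsMono g π) : IsMono g⁻¹ π⁻¹ := by
  intro i j hij
  have h1 : ((g * g⁻¹ : GL (Fin n) F) : Matrix (Fin n) (Fin n) F) (π i) j = 0 := by
    rw [mul_inv_cancel, GeneralLinearGroup.coe_one, Matrix.one_apply_ne]
    intro e
    exact hij (by rw [← e]; simp)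
  rw [GeneralLinearGroup.coe_mul, Matrix.mul_apply, Fintype.sum_eq_single i] at h1
  · exact (mul_eq_zero.1 h1).resolve_left (h.apply_ne_zero i)
  · intro k hk
    rw [h (π i) k (fun e => hk (π.injective e).symm), zero_mul]

theorem IsMono.one_mem_borel {g : GL (Fin n) F} (h : IsMono g 1) : g ∈ GL.borel n F :=
  fun i j hij => h i j (by simpa using hij.ne')

theorem IsMono.eq_one_of_mem_borel {g : GL (Fin n) F} {π : Equiv.Perm (Fin n)} (h : IsMono g π)
    (hg : g ∈ GL.borel n F) : π = 1 := by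
  by_contra hne
  obtain ⟨i, j, hij, hlt⟩ := exists_descent hne
  have hle : ∀ k, π k ≤ k := fun k => by
    by_contra hk
    exact h.apply_ne_zero k (hg _ _ (not_le.1 hk))
  have hsum : ∑ k : Fin n, ((π k : Fin n) : ℕ) = ∑ k : Fin n, (k : ℕ) :=
    Equiv.sum_comp π (fun k : Fin n => (k : ℕ))
  have hall : ∀ k, π k = k := fun k => by
    have := (Finset.sum_eq_sum_iff_of_le (fun k _ => Fin.le_def.1 (hle k))).1 hsum k (Finset.mem_univ k)
    exact Fin.ext this
  exact hne (Equiv.ext hall)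

theorem IsMono.commute {g g' : GL (Fin n) F} (h : IsMono g 1) (h' : IsMono g' 1) : g * g' = g' * g := by
  refine Units.ext (Matrix.ext fun i j => ?_)
  rw [GeneralLinearGroup.coe_mul, GeneralLinearGroup.coe_mul, Matrix.mul_apply, Matrix.mul_apply]
  refine Finset.sum_congr rfl fun k _ => ?_
  by_cases hik : i = k
  · subst hik
    by_cases hij : i = j
    · subst hij; ring
    · rw [h' i j (by simpa using hij), h i j (by simpa using hij)]; ring
  · rw [h i k (by simpa using hik), h' i k (by simpa using hik)]; ring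

/-- The upper unitriangular part of `G`. -/
def uniPart (G : Subgroup (GL (Fin n) F)) : Subgroup (GL (Fin n) F) := G ⊓ GL.unitriangular n F

theorem conj_mem_uniPart {G : Subgroup (GL (Fin n) F)} {d x : GL (Fin n) F} (hd : d ∈ GL.borel n F)
    (hdG : d ∈ G) (hx : x ∈ uniPart G) : d * x * d⁻¹ ∈ uniPart G := by
  refine ⟨G.mul_mem (G.mul_mem hdG hx.1) (G.inv_mem hdG), ?_⟩
  exact (Subgroup.mem_normalizer_iff.1 (GL.borel_le_normalizer_unitriangular hd) x).1 hx.2

/-- What the argument needs from a split matrix group: a Bruhat decomposition and, for every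
monomial element with non-trivial permutation, a rank one element increasing the weight. -/
structure Frame (G : Subgroup (GL (Fin n) F)) : Prop where
  dec : ∀ g ∈ G, ∃ (u m u' : GL (Fin n) F) (π : Equiv.Perm (Fin n)),
    u ∈ uniPart G ∧ m ∈ G ∧ IsMono m π ∧ u' ∈ uniPart G ∧ g = u * m * u'
  desc : ∀ (m : GL (Fin n) F) (π : Equiv.Perm (Fin n)), m ∈ G → IsMono m π → π ≠ 1 →
    ∃ (x x' : GL (Fin n) F) (π₀ : Equiv.Perm (Fin n)),
      x ∈ uniPart G ∧ x' ∈ uniPart G ∧ m * x' * m⁻¹ ∉ GL.unitriangular n F ∧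
      IsMono (x * (m * x' * m⁻¹) * x) π₀ ∧ weight π < weight (π₀ * π)

namespace Frame

variable {G : Subgroup (GL (Fin n) F)} (hG : Frame G)
include hG

theorem diag_conj_mem_of_mono {H : Subgroup (GL (Fin n) F)} (hUH : uniPart G ≤ H) (hHG : H ≤ G)
    {d : GL (Fin n) F} (hd : d ∈ G) (hd1 : IsMono d 1) :
    ∀ (k : ℕ) (m : GL (Fin n) F) (π : Equiv.Perm (Fin n)), m ∈ H → IsMono m π →
      n * (n * n) ≤ weight π + k → d * m * d⁻¹ ∈ H := by
  intro k
  induction k using Nat.strong_induction_on with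
  | _ k ih =>
    intro m π hm hπ hk
    by_cases h1 : π = 1
    · subst h1
      rw [hd1.commute hπ, mul_inv_cancel_right]
      exact hm
    · obtain ⟨x, x', π₀, hx, hx', -, hn0, hlt⟩ := hG.desc m π (hHG hm) hπ h1
      set y := m * x' * m⁻¹ with hy
      have hyH : y ∈ H := H.mul_mem (H.mul_mem hm (hUH hx')) (H.inv_mem hm)
      have hn0H : x * y * x ∈ H := H.mul_mem (H.mul_mem (hUH hx) hyH) (hUH hx)
      have hle := weight_le (π₀ * π)
      have hm' := ih (k - 1) (by omega) (x * y * x * m) (π₀ * π) (H.mul_mem hn0H hm) (hn0.mul hπ)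
        (by omega)
      have hxd : d * x * d⁻¹ ∈ H := hUH (conj_mem_uniPart hd1.one_mem_borel hd hx)
      have hd' : IsMono (m⁻¹ * d * m) 1 := by
        have := (hπ.inv.mul hd1).mul hπ
        simpa using this
      have hyd : d * y * d⁻¹ ∈ H := by
        have e : d * y * d⁻¹ = m * ((m⁻¹ * d * m) * x' * (m⁻¹ * d * m)⁻¹) * m⁻¹ := by
          rw [hy]; group
        rw [e]
        refine H.mul_mem (H.mul_mem hm (hUH (conj_mem_uniPart hd'.one_mem_borel ?_ hx'))) (H.inv_mem hm)
        exact G.mul_mem (G.mul_mem (G.inv_mem (hHG hm)) hd) (hHG hm)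
      have e : d * m * d⁻¹ = ((d * x * d⁻¹) * (d * y * d⁻¹) * (d * x * d⁻¹))⁻¹ *
          (d * (x * y * x * m) * d⁻¹) := by group
      rw [e]
      exact H.mul_mem (H.inv_mem (H.mul_mem (H.mul_mem hxd hyd) hxd)) hm'

/-- A diagonal element of `G` normalizes every subgroup between the unitriangular part and `G`. -/
theorem diag_conj_mem {H : Subgroup (GL (Fin n) F)} (hUH : uniPart G ≤ H) (hHG : H ≤ G)
    {d : GL (Fin n) F} (hd : d ∈ G) (hd1 : IsMono d 1) {g : GL (Fin n) F} (hg : g ∈ H) :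
    d * g * d⁻¹ ∈ H := by
  obtain ⟨u, m, u', π, hu, -, hπ, hu', rfl⟩ := hG.dec g (hHG hg)
  have hm : m ∈ H := by
    have e : m = u⁻¹ * (u * m * u') * u'⁻¹ := by group
    rw [e]
    exact H.mul_mem (H.mul_mem (H.inv_mem (hUH hu)) hg) (H.inv_mem (hUH hu'))
  have hm' := hG.diag_conj_mem_of_mono hUH hHG hd hd1 (n * (n * n)) m π hm hπ (Nat.le_add_left _ _)
  have e : d * (u * m * u') * d⁻¹ = (d * u * d⁻¹) * (d * m * d⁻¹) * (d * u' * d⁻¹) := by group
  rw [e]
  exact H.mul_mem (H.mul_mem (hUH (conj_mem_uniPart hd1.one_mem_borel hd hu)) hm')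
    (hUH (conj_mem_uniPart hd1.one_mem_borel hd hu'))

/-- The triangular elements of `G` normalize every subgroup between the unitriangular part and `G`. -/
theorem borel_conj_mem {H : Subgroup (GL (Fin n) F)} (hUH : uniPart G ≤ H) (hHG : H ≤ G)
    {b : GL (Fin n) F} (hbG : b ∈ G) (hb : b ∈ GL.borel n F) {g : GL (Fin n) F} (hg : g ∈ H) :
    b * g * b⁻¹ ∈ H := by
  obtain ⟨u, m, u', π, hu, hmG, hπ, hu', rfl⟩ := hG.dec b hbG
  have hmb : m ∈ GL.borel n F := by
    have e : m = u⁻¹ * (u * m * u') * u'⁻¹ := by group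
    rw [e]
    exact mul_mem (mul_mem (inv_mem (GL.unitriangular_le_borel hu.2)) hb)
      (inv_mem (GL.unitriangular_le_borel hu'.2))
  obtain rfl := hπ.eq_one_of_mem_borel hmb
  have e : u * m * u' * g * (u * m * u')⁻¹ = u * (m * (u' * g * u'⁻¹) * m⁻¹) * u⁻¹ := by group
  rw [e]
  exact H.mul_mem (H.mul_mem (hUH hu) (hG.diag_conj_mem hUH hHG hmG hπ
    (H.mul_mem (H.mul_mem (hUH hu') hg) (H.inv_mem (hUH hu'))))) (H.inv_mem (hUH hu))

/-- The normalizer of the unitriangular part is triangular. -/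
theorem mem_borel_of_normalizes {g : GL (Fin n) F} (hg : g ∈ G)
    (hn : ∀ x ∈ uniPart G, g * x * g⁻¹ ∈ uniPart G) : g ∈ GL.borel n F := by
  obtain ⟨u, m, u', π, hu, hmG, hπ, hu', rfl⟩ := hG.dec g hg
  by_cases h1 : π = 1
  · subst h1
    exact mul_mem (mul_mem (GL.unitriangular_le_borel hu.2) hπ.one_mem_borel) (GL.unitriangular_le_borel hu'.2)
  · obtain ⟨x, x', π₀, -, hx', hnot, -, -⟩ := hG.desc m π hmG hπ h1
    refine absurd ?_ hnot
    have h := hn (u'⁻¹ * x' * u') (mul_mem (mul_mem (inv_mem hu') hx') hu')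
    have e : m * x' * m⁻¹ = u⁻¹ * ((u * m * u') * (u'⁻¹ * x' * u') * (u * m * u')⁻¹) * u := by group
    rw [e]
    exact (mul_mem (mul_mem (inv_mem hu) h) hu).2

variable (p : ℕ) [Fact p.Prime] [CharP F p] [Finite F]

omit hG in
theorem isPGroup_uniPart : IsPGroup p (uniPart G) := by
  haveI := Fintype.ofFinite F
  exact (GL.isPGroup_unitriangular (n := n) (F := F) p).to_le inf_le_right

/-- A `p`-subgroup of `G` containing the unitriangular part equals it. -/
theorem eq_uniPart_of_isPGroup {P : Subgroup (GL (Fin n) F)} (hUP : uniPart G ≤ P) (hPG : P ≤ G)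
    (hP : IsPGroup p P) : P = uniPart G := by
  by_contra hne
  haveI := Fintype.ofFinite F
  haveI : Group.IsNilpotent P := hP.isNilpotent
  have hlt : (uniPart G).subgroupOf P < ⊤ := by
    refine lt_top_iff_ne_top.2 fun h => hne (le_antisymm ?_ hUP)
    rwa [Subgroup.subgroupOf_eq_top] at h
  have h2 := Group.normalizerCondition_of_isNilpotent ((uniPart G).subgroupOf P) hlt
  obtain ⟨g, hg, hgn⟩ := SetLike.exists_of_lt h2
  have hgb : (g : GL (Fin n) F) ∈ GL.borel n F := by
    refine hG.mem_borel_of_normalizes (hPG g.2) fun x hx => ?_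
    have := (Subgroup.mem_normalizer_iff.1 hg ⟨x, hUP hx⟩).1 hx
    exact this
  refine hgn ?_
  show (g : GL (Fin n) F) ∈ uniPart G
  refine ⟨hPG g.2, GL.mem_unitriangular.2 ⟨hgb, fun i => ?_⟩⟩
  obtain ⟨k, hk⟩ := hP g
  have h3 : (GL.borelDiag n F ⟨g, hgb⟩) ^ p ^ k = 1 := by
    rw [← map_pow]
    have : (⟨(g : GL (Fin n) F), hgb⟩ : GL.borel n F) ^ p ^ k = 1 :=
      Subtype.ext (by simpa using congrArg Subtype.val hk)
    rw [this, map_one]
  have h4 : ((g : GL (Fin n) F) : Matrix (Fin n) (Fin n) F) i i ^ p ^ k = 1 := by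
    have := congrArg Units.val (congrFun h3 i)
    simpa using this
  have h5 : (((g : GL (Fin n) F) : Matrix (Fin n) (Fin n) F) i i - 1) ^ p ^ k = 0 := by
    rw [sub_pow_char_pow, h4, one_pow, sub_self]
  exact sub_eq_zero.1 (pow_eq_zero_iff (pow_ne_zero _ (Fact.out : p.Prime).ne_zero) |>.1 h5)

/-- Every subgroup of index prime to `p` of the group `G` is pronormal. -/
theorem isPronormal (H : Subgroup G) (hH : ¬ p ∣ H.index) : Cfsg.IsPronormal H := by
  have hU : IsPGroup p ((uniPart G).subgroupOf G) :=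
    (isPGroup_uniPart (G := G) p).comap_subtype
  obtain ⟨P, hP⟩ := hU.exists_le_sylow
  have hPeq : (P : Subgroup G).map G.subtype = uniPart G := by
    refine hG.eq_uniPart_of_isPGroup p ?_ (Subgroup.map_subtype_le _) (P.isPGroup'.map _)
    intro x hx
    exact ⟨⟨x, hx.1⟩, hP hx, rfl⟩
  refine isPronormal_of_normalizer_le P (fun K hK g hg => ?_) H hH
  have hb : (g : GL (Fin n) F) ∈ GL.borel n F := by
    refine hG.mem_borel_of_normalizes g.2 fun x hx => ?_
    rw [← hPeq] at hx ⊢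
    obtain ⟨y, hy, rfl⟩ := hx
    exact ⟨g * y * g⁻¹, (Subgroup.mem_normalizer_iff.1 hg y).1 hy, rfl⟩
  have hUK : uniPart G ≤ K.map G.subtype := by
    rw [← hPeq]; exact Subgroup.map_mono hK
  have key : ∀ b : G, (b : GL (Fin n) F) ∈ GL.borel n F → ∀ y ∈ K, b * y * b⁻¹ ∈ K := by
    intro b hbb y hy
    have := hG.borel_conj_mem hUK (Subgroup.map_subtype_le _) b.2 hbb
      (Subgroup.mem_map_of_mem G.subtype hy)
    obtain ⟨z, hz, he⟩ := this
    rwa [← show z = b * y * b⁻¹ from Subtype.ext (by simpa using he)]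
  rw [Subgroup.mem_normalizer_iff]
  intro y
  refine ⟨key g hb y, fun h => ?_⟩
  have := key g⁻¹ (inv_mem hb) _ h
  simpa [mul_assoc] using this

end Frame

end Cfsg.Agent.Pronormal
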