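import Mathlib
import Cfsg.Agent.Lib.Pronormal.Frame

/-!
Transvections, monomial matrices and the Bruhat decomposition in the form used by `Frame`.
-/

set_option autoImplicit false

open Matrix

namespace Cfsg.Agent.Pronormal

variable {F : Type*} [Field F] {n : ℕ}

/-- The elementary transvection `1 + t E_ij`. -/
noncomputable def tv {i j : Fin n} (h : i ≠ j) (t : F) : GL (Fin n) F :=
  SpecialLinearGroup.toGL (SpecialLinearGroup.transvection h t)

theorem coe_tv {i j : Fin n} (h : i ≠ j) (t : F) :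
    ((tv h t : GL (Fin n) F) : Matrix (Fin n) (Fin n) F) = 1 + Matrix.single i j t := by
  simp [tv, SpecialLinearGroup.transvection_coe]

theorem det_tv {i j : Fin n} (h : i ≠ j) (t : F) : GeneralLinearGroup.det (tv h t) = 1 := by
  refine Units.ext ?_
  rw [GeneralLinearGroup.val_det_apply]
  exact (SpecialLinearGroup.transvection h t).2

theorem tv_mem_unitriangular {i j : Fin n} (h : i < j) (t : F) : tv h.ne t ∈ GL.unitriangular n F :=
  GL.transvection_mem_unitriangular h t

theorem tv_notMem_unitriangular {i j : Fin n} (h : i < j) {t : F} (ht : t ≠ 0) :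
    tv h.ne' t ∉ GL.unitriangular n F := by
  intro hmem
  have := (GL.mem_unitriangular.1 hmem).1 j i h
  rw [coe_tv] at this
  simp [h.ne'] at this
  exact ht this

theorem IsMono.mul_single {m : GL (Fin n) F} {π : Equiv.Perm (Fin n)} (hm : IsMono m π) (i j : Fin n) (t : F) :
    (m : Matrix (Fin n) (Fin n) F) * Matrix.single i j t =
      Matrix.single (π i) j ((m : Matrix (Fin n) (Fin n) F) (π i) i * t) := by
  ext a b
  rcases eq_or_ne b j with rfl | hb
  · rcases eq_or_ne a (π i) with rfl | ha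
    · simp
    · simp [Matrix.single_apply, hm a i ha, Ne.symm ha]
  · simp [Matrix.single_apply, hb, Ne.symm hb]

theorem IsMono.single_mul {m : GL (Fin n) F} {π : Equiv.Perm (Fin n)} (hm : IsMono m π) (i j : Fin n) (t : F) :
    Matrix.single i (π j) t * (m : Matrix (Fin n) (Fin n) F) =
      Matrix.single i j (t * (m : Matrix (Fin n) (Fin n) F) (π j) j) := by
  ext a b
  rcases eq_or_ne a i with rfl | ha
  · rcases eq_or_ne b j with rfl | hb
    · simp
    · simp [Matrix.single_apply, Ne.symm hb, hm (π j) b (fun e => hb (π.injective e).symm)]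
  · simp [Matrix.single_apply, ha, Ne.symm ha]

/-- Conjugation of a transvection by a monomial matrix. -/
theorem IsMono.conj_tv {m : GL (Fin n) F} {π : Equiv.Perm (Fin n)} (hm : IsMono m π) {i j : Fin n}
    (h : i ≠ j) (h' : π i ≠ π j) {t s : F}
    (hts : (m : Matrix (Fin n) (Fin n) F) (π i) i * t = s * (m : Matrix (Fin n) (Fin n) F) (π j) j) :
    m * tv h t * m⁻¹ = tv h' s := by
  rw [mul_inv_eq_iff_eq_mul]
  refine Units.ext ?_
  rw [GeneralLinearGroup.coe_mul, GeneralLinearGroup.coe_mul, coe_tv, coe_tv, mul_add, add_mul, mul_one,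
    one_mul, hm.mul_single, hm.single_mul, hts]

/-- Pulling a transvection back along a monomial matrix. -/
theorem IsMono.exists_conj_tv {m : GL (Fin n) F} {π : Equiv.Perm (Fin n)} (hm : IsMono m π) {i j : Fin n}
    (h : i ≠ j) (h' : π i ≠ π j) (s : F) : ∃ t, m * tv h t * m⁻¹ = tv h' s :=
  ⟨s * (m : Matrix (Fin n) (Fin n) F) (π j) j / (m : Matrix (Fin n) (Fin n) F) (π i) i,
    hm.conj_tv h h' (mul_div_cancel₀ _ (hm.apply_ne_zero i))⟩

/-- The rank one monomial element. -/
theorem isMono_tv_swap {a b : Fin n} (h : a ≠ b) :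
    IsMono (tv h (1 : F) * tv h.symm (-1) * tv h 1) (Equiv.swap a b) := by
  have e : ((tv h (1 : F) * tv h.symm (-1) * tv h 1 : GL (Fin n) F) : Matrix (Fin n) (Fin n) F) =
      1 + Matrix.single a b 1 + Matrix.single b a (-1) + Matrix.single a a (-1) + Matrix.single b b (-1) := by
    rw [GeneralLinearGroup.coe_mul, GeneralLinearGroup.coe_mul, coe_tv, coe_tv]
    simp [mul_add, add_mul, h, h.symm]
    have htwo : Matrix.single a b (-1 : F) + Matrix.single a b 2 = Matrix.single a b 1 := by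
      rw [← Matrix.single_add]; norm_num
    abel_nf
    simp [add_comm, add_left_comm]
    rw [← htwo]
    abel
  intro i j hij
  rw [e]
  simp only [Matrix.add_apply, Matrix.one_apply, Matrix.single_apply]
  rcases eq_or_ne j a with rfl | hja
  · rw [Equiv.swap_apply_left] at hij
    rcases eq_or_ne i j with rfl | hi
    · simp [h, h.symm]
    · simp [hi, Ne.symm hi, hij, Ne.symm hij, h.symm]
  · rcases eq_or_ne j b with rfl | hjb
    · rw [Equiv.swap_apply_right] at hij
      rcases eq_or_ne i j with rfl | hi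
      · simp [h, h.symm]
      · simp [hi, Ne.symm hi, hij, Ne.symm hij, h]
    · rw [Equiv.swap_apply_of_ne_of_ne hja hjb] at hij
      simp [hij, Ne.symm hja, Ne.symm hjb]

/-- The diagonal part of a triangular matrix. -/
theorem exists_diag_of_mem_borel {b : GL (Fin n) F} (hb : b ∈ GL.borel n F) :
    ∃ u d d' u', u ∈ GL.unitriangular n F ∧ u' ∈ GL.unitriangular n F ∧ IsMono d 1 ∧ IsMono d' 1 ∧
      b = u * d ∧ b = d' * u' := by
  classical
  let δ : Fin n → Fˣ := GL.borelDiag n F ⟨b, hb⟩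
  let d : GL (Fin n) F := GL.diagHom δ
  have hd : IsMono d 1 := fun i j hij => by
    show (Matrix.diagonal (fun i => (δ i : F))) i j = 0
    exact Matrix.diagonal_apply_ne _ (by simpa using hij)
  have hdb : d ∈ GL.borel n F := hd.one_mem_borel
  have hker : ∀ g : GL.borel n F, GL.borelDiag n F g = 1 → (g : GL (Fin n) F) ∈ GL.unitriangular n F :=
    fun g hg => ⟨g, hg, rfl⟩
  have hdd : GL.borelDiag n F ⟨d, hdb⟩ = δ := funext fun i => Units.ext (by
    rw [GL.borelDiag_apply]
    show (Matrix.diagonal (fun i => (δ i : F))) i i = δ i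
    exact Matrix.diagonal_apply_eq _ _)
  refine ⟨b * d⁻¹, d, d, d⁻¹ * b, ?_, ?_, hd, hd, by group, by group⟩
  · exact hker (⟨b, hb⟩ * (⟨d, hdb⟩ : GL.borel n F)⁻¹) (by rw [map_mul, map_inv, hdd]; exact mul_inv_cancel δ)
  · exact hker ((⟨d, hdb⟩ : GL.borel n F)⁻¹ * ⟨b, hb⟩) (by rw [map_mul, map_inv, hdd]; exact inv_mul_cancel δ)

/-- Bruhat decomposition with unitriangular factors. -/
theorem exists_bruhat_mono (g : GL (Fin n) F) : ∃ (u m u' : GL (Fin n) F) (π : Equiv.Perm (Fin n)),
    u ∈ GL.unitriangular n F ∧ IsMono m π ∧ u' ∈ GL.unitriangular n F ∧ g = u * m * u' := by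
  classical
  obtain ⟨b, b', σ, hb, hb', hbd, hb'd, e⟩ :=
    FlagChar.exists_bruhat n (g : Matrix (Fin n) (Fin n) F) (g.isUnit.map Matrix.detMonoidHom).ne_zero
  let B : GL (Fin n) F := GeneralLinearGroup.mkOfDetNeZero b hbd
  let B' : GL (Fin n) F := GeneralLinearGroup.mkOfDetNeZero b' hb'd
  have hP : IsMono (B * g * B') σ := fun i j hij => by
    show (b * (g : Matrix (Fin n) (Fin n) F) * b') i j = 0
    rw [e]
    simp [FlagChar.permMat, hij]
  have hB : B⁻¹ ∈ GL.borel n F := inv_mem (fun i j hij => hb hij)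
  have hB' : B'⁻¹ ∈ GL.borel n F := inv_mem (fun i j hij => hb' hij)
  obtain ⟨u, d, -, -, hu, -, hd, -, e1, -⟩ := exists_diag_of_mem_borel hB
  obtain ⟨-, -, d', u', -, hu', -, hd', -, e2⟩ := exists_diag_of_mem_borel hB'
  refine ⟨u, d * (B * g * B') * d', u', σ, hu, by simpa using (hd.mul hP).mul hd', hu', ?_⟩
  calc g = B⁻¹ * (B * g * B') * B'⁻¹ := by group
    _ = u * (d * (B * g * B') * d') * u' := by rw [e1, e2]; group

/-- `SL_n` is a frame. -/
theorem frame_det_ker : Frame (GeneralLinearGroup.det : GL (Fin n) F →* Fˣ).ker := by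
  constructor
  · intro g hg
    obtain ⟨u, m, u', π, hu, hm, hu', rfl⟩ := exists_bruhat_mono g
    have h1 := GL.unitriangular_le_det_ker hu
    have h2 := GL.unitriangular_le_det_ker hu'
    refine ⟨u, m, u', π, ⟨h1, hu⟩, ?_, hm, ⟨h2, hu'⟩, rfl⟩
    rw [MonoidHom.mem_ker] at hg h1 h2 ⊢
    rwa [map_mul, map_mul, h1, h2, one_mul, mul_one] at hg
  · intro m π hmG hm h1
    obtain ⟨i, j, hij, hlt⟩ := exists_descent h1
    have hij' : i < j := Fin.lt_def.2 (by omega)
    obtain ⟨t, ht⟩ := hm.exists_conj_tv hij'.ne hlt.ne' (-1 : F)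
    refine ⟨tv hlt.ne 1, tv hij'.ne t, Equiv.swap (π j) (π i), ⟨MonoidHom.mem_ker.2 (det_tv _ _), tv_mem_unitriangular hlt _⟩,
      ⟨MonoidHom.mem_ker.2 (det_tv _ _), tv_mem_unitriangular hij' _⟩, ?_, ?_, ?_⟩
    · rw [ht]
      exact tv_notMem_unitriangular hlt (by simp)
    · rw [ht]
      exact isMono_tv_swap hlt.ne
    · rw [show Equiv.swap (π j) (π i) * π = π * Equiv.swap i j by
        rw [Equiv.swap_comm (π j), Equiv.swap_apply_apply]; group]
      exact weight_mul_swap π hij' hlt

end Cfsg.Agent.Pronormal
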