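import Mathlib
import Cfsg.Agent.Lib.Pronormal.BaseExist
import Cfsg.Agent.Lib.Pronormal.Monomial

/-!
Odd index subgroups of `PSL_(2^w)(q)` are pronormal when `q` is even, or `q` is odd and `w ≥ 2`.
-/

set_option autoImplicit false

open Matrix

namespace Cfsg.Agent.Pronormal

variable {F : Type*} [Field F]

/-- All of `GL`. -/
def linFamily (F : Type*) [Field F] : Family F :=
  ⟨fun _ => ⊤, fun _ _ _ _ _ => Subgroup.mem_top _, fun _ => Subgroup.mem_top _⟩

theorem factorization_mul_of_odd {x y : ℕ} (hx : ¬ 2 ∣ x) (hy : y ≠ 0) :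
    (x * y).factorization 2 = v2 y := by
  rw [Nat.factorization_mul (fun e => hx (by simp [e])) hy, Finsupp.add_apply,
    Nat.factorization_eq_zero_of_not_dvd hx, zero_add, Nat.factorization_def _ Nat.prime_two]

theorem v2_eq_one_of_mod_four {x : ℕ} (h : x % 4 = 2) : v2 x = 1 := by
  obtain ⟨c, rfl⟩ : ∃ c, x = 2 * c := ⟨x / 2, by omega⟩
  show padicValNat 2 (2 * c) = 1
  rw [padicValNat.mul two_ne_zero (by omega), padicValNat.self one_lt_two,
    padicValNat.eq_zero_of_not_dvd (show ¬ 2 ∣ c by omega)]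

theorem two_le_v2_of_four_dvd {x : ℕ} (hx : x ≠ 0) (h : 4 ∣ x) : 2 ≤ v2 x := by
  haveI : Fact (Nat.Prime 2) := ⟨Nat.prime_two⟩
  exact (padicValNat_dvd_iff_le hx).1 (by simpa using h)

variable [Fintype F]

/-- The semidihedral data inside `GL_2(q)`, `q ≡ 3 (mod 4)`. -/
theorem exists_sdData_linear (hq : Fintype.card F % 4 = 3) :
    ∃ (u v : F) (h : u ^ 2 + v ^ 2 = -1), IsSDData u v h (v2 (Fintype.card F + 1) + 1) := by
  set q := Fintype.card F with hqdef
  have hqo : Odd q := Nat.odd_iff.2 (by omega)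
  have h2 : (2 : F) ≠ 0 := by
    obtain ⟨p, hp⟩ := CharP.exists F
    obtain ⟨m, hpp, hm⟩ := FiniteField.card F p
    refine Ring.two_ne_zero ?_
    rw [ringChar.eq F p]
    rintro rfl
    rw [← hqdef] at hm
    have : Even q := hm ▸ (Nat.even_pow.2 ⟨even_two, m.ne_zero⟩)
    exact (Nat.not_even_iff_odd.2 hqo) this
  let K := AlgebraicClosure F
  let f : F →+* K := algebraMap F K
  have h2K : (2 : K) ≠ 0 := fun e => h2 (f.injective (by rw [map_ofNat, map_zero, e]))
  set t := v2 (q + 1) with ht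
  have ht2 : 2 ≤ t := two_le_v2_of_four_dvd (by omega) (by omega)
  obtain ⟨lam, hlam⟩ := IsAlgClosed.exists_pow_nat_eq (-1 : K) (show 0 < 2 ^ t by positivity)
  obtain ⟨i, hi⟩ := IsAlgClosed.exists_pow_nat_eq (-1 : K) two_pos
  have hlam0 : lam ≠ 0 := by
    rintro rfl
    rw [zero_pow (by positivity)] at hlam
    exact one_ne_zero (α := K) (by linear_combination hlam)
  have hi0 : i ≠ 0 := by
    rintro rfl
    exact one_ne_zero (α := K) (by linear_combination hi)
  obtain ⟨c, hcodd, hc⟩ : ∃ c, ¬ 2 ∣ c ∧ q + 1 = 2 ^ t * c := by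
    haveI : Fact (Nat.Prime 2) := ⟨Nat.prime_two⟩
    obtain ⟨c, hc⟩ : 2 ^ t ∣ q + 1 := pow_padicValNat_dvd
    refine ⟨c, fun hd => ?_, hc⟩
    obtain ⟨d, rfl⟩ := hd
    exact pow_succ_padicValNat_not_dvd (p := 2) (show q + 1 ≠ 0 by omega) ⟨d, by rw [show padicValNat 2 (q + 1) = t from ht.symm, pow_succ, mul_assoc]; exact hc⟩
  have hlq : lam ^ q * lam = -1 := by
    rw [← pow_succ, hc, pow_mul, hlam, Odd.neg_one_pow (Nat.odd_iff.2 (Nat.two_dvd_ne_zero.1 hcodd))]
  have hiq : i ^ q = -i := by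
    obtain ⟨j, hj⟩ : ∃ j, q = 4 * j + 3 := ⟨q / 4, by omega⟩
    rw [hj, pow_add, pow_mul, show i ^ 4 = 1 by linear_combination (i ^ 2 - 1) * hi, one_pow, one_mul]
    linear_combination i * hi
  obtain ⟨p, hp⟩ := CharP.exists F
  obtain ⟨m, hpp, hm⟩ := FiniteField.card F p
  haveI : Fact p.Prime := ⟨hpp⟩
  haveI : CharP K p := charP_of_injective_algebraMap f.injective p
  have hfrob : ∀ x y : K, (x + y) ^ q = x ^ q + y ^ q := fun x y => by
    rw [hqdef, hm, add_pow_char_pow]
  have hinF : ∀ x : K, x ^ q = x → ∃ a : F, f a = x := by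
    intro x hx
    have h1q := Fintype.one_lt_card (α := F)
    have hroots := FiniteField.roots_X_pow_card_sub_X F
    have hne : (Polynomial.X ^ q - Polynomial.X : Polynomial F) ≠ 0 :=
      FiniteField.X_pow_card_sub_X_ne_zero F h1q
    have hdeg : (Polynomial.X ^ q - Polynomial.X : Polynomial F).natDegree = q :=
      FiniteField.X_pow_card_sub_X_natDegree_eq F h1q
    have hmap := Polynomial.roots_map_of_injective_of_card_eq_natDegree f.injective
      (show Multiset.card (Polynomial.X ^ q - Polynomial.X : Polynomial F).roots = _ by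
        rw [hroots, hdeg]; exact Finset.card_univ)
    have hxr : x ∈ ((Polynomial.X ^ q - Polynomial.X : Polynomial F).map f).roots := by
      rw [Polynomial.mem_roots (Polynomial.map_ne_zero hne)]
      simp [hx]
    rw [← hmap, Multiset.mem_map] at hxr
    obtain ⟨a, -, rfl⟩ := hxr
    exact ⟨a, rfl⟩
  set mu := -lam⁻¹ with hmu
  have hlq' : lam ^ q = mu := by
    rw [hmu]
    exact mul_right_cancel₀ hlam0 (by rw [hlq, neg_mul, inv_mul_cancel₀ hlam0])
  have hmuq : mu ^ q = lam := by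
    rw [hmu, neg_pow, hqo.neg_one_pow, inv_pow, hlq', hmu, inv_neg, neg_one_mul, neg_neg]
    exact inv_inv lam
  have htwo : (2 : K) ^ q = 2 := by
    rw [show (2 : K) = f 2 by rw [map_ofNat], ← map_pow, FiniteField.pow_card]
  obtain ⟨u, hu⟩ := hinF ((lam + mu) / 2) (by rw [div_pow, hfrob, hlq', hmuq, htwo, add_comm])
  obtain ⟨v, hv⟩ := hinF ((lam - mu) / (2 * i)) (by
    rw [div_pow, sub_eq_add_neg, hfrob, hlq', neg_pow, hqo.neg_one_pow, hmuq, mul_pow, htwo, hiq]
    rw [mul_neg, div_neg, neg_div', neg_one_mul, neg_add, neg_neg, add_comm]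
    simp [hmu])
  have hlm : lam * mu = -1 := by rw [hmu, mul_neg, mul_inv_cancel₀ hlam0]
  have h : u ^ 2 + v ^ 2 = -1 := f.injective (by
    rw [map_add, map_pow, map_pow, hu, hv, map_neg, map_one, div_pow, div_pow, mul_pow,
      show i ^ 2 = -1 from hi, mul_neg_one, div_neg, ← sub_eq_add_neg, ← sub_div,
      show (lam + mu) ^ 2 - (lam - mu) ^ 2 = 2 ^ 2 * (lam * mu) by ring, hlm,
      mul_div_cancel_left₀ _ (pow_ne_zero 2 h2K)])
  refine ⟨u, v, h, isSDData_of_eigen f h2 (by omega) i lam (by rw [← pow_two, hi]) (by rw [Nat.add_sub_cancel]; exact hlam) ?_⟩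
  rw [hu, hv, div_mul_eq_mul_div, mul_div_mul_right _ _ hi0, ← add_div,
    show lam + mu + (lam - mu) = 2 * lam by ring, mul_div_cancel_left₀ _ h2K]

/-- Odd index subgroups of `PSL_n(q)` for `n = 2^(j+2)`, `q` odd. -/
theorem isPronormal_psl_odd (h2 : (2 : F) ≠ 0) (j n : ℕ) (hn : n = 2 ^ (j + 2))
    (H : Subgroup (ProjectiveSpecialLinearGroup (Fin n) F)) (hH : Odd H.index) : Cfsg.IsPronormal H := by
  set q := Fintype.card F with hqdef
  have hq1 : 1 < q := Fintype.one_lt_card
  obtain ⟨p, hp⟩ := CharP.exists F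
  obtain ⟨m, hpp, hm⟩ := FiniteField.card F p
  have hqo : Odd q := by
    rw [hqdef, hm, Nat.odd_pow_iff m.ne_zero]
    refine hpp.odd_of_ne_two fun e => h2 ?_
    subst e
    exact CharP.cast_eq_zero F 2
  have hn1 : 1 ≤ n := hn ▸ Nat.one_le_two_pow
  haveI : Nonempty (Fin n) := ⟨⟨0, hn1⟩⟩
  set C := 2 * v2 (q - 1) + v2 (q + 1) + 1 with hCdef
  have hprod : (∏ i ∈ Finset.Ico 1 (n + 1), (q ^ i - 1)) ≠ 0 :=
    Finset.prod_ne_zero_iff.2 fun i hi => by
      have := Nat.one_lt_pow (show i ≠ 0 by rw [Finset.mem_Ico] at hi; omega) hq1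
      omega
  have hfac : (Nat.card (SpecialLinearGroup (Fin n) F)).factorization 2 + v2 (q - 1) = 2 ^ (j + 1) * C - 1 := by
    have h1 := GL.card_SL_mul (F := F) n hn1
    have h2' : (Nat.card (GL (Fin n) F)).factorization 2 =
        v2 (∏ i ∈ Finset.Ico 1 (n + 1), (q ^ i - 1)) := by
      rw [GL.card_GL_prod, factorization_mul_of_odd (hqo.pow).not_two_dvd_nat hprod]
    have h3 : Nat.card (GL (Fin n) F) = (q - 1) * Nat.card (SpecialLinearGroup (Fin n) F) := by
      rw [GL.card_GL_eq_SL_mul_units, GL.card_units_field, mul_comm]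
    rw [h3, Nat.factorization_mul (by omega) Nat.card_pos.ne', Finsupp.add_apply,
      Nat.factorization_def _ Nat.prime_two] at h2'
    have h4 := v2_prod_GL hq1 hqo (j + 1)
    rw [← hn, ← hCdef] at h4
    simp only [v2] at h2' h4 ⊢
    omega
  obtain ⟨D, hD, hbase⟩ : ∃ D : Subgroup Fˣ, Nat.card D = 2 ^ v2 (q - 1) ∧
      ∃ S : Subgroup (GL (Fin 2) F), Layer (linFamily F) D 2 (C - 1) S ∧
        ∃ y ∈ S, y * y = -1 ∧ GeneralLinearGroup.det y = 1 := by
    rcases Nat.lt_or_ge (q % 4) 2 with h | h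
    · have hb : v2 (q + 1) = 1 := v2_eq_one_of_mod_four (by obtain ⟨c, hc⟩ := hqo; omega)
      rw [hCdef, hb, Nat.add_sub_cancel]
      refine exists_base_one (linFamily F) h2 ⊤ (fun _ _ => Subgroup.mem_top _) ?_
        (two_le_v2_of_four_dvd (by omega) (by obtain ⟨c, hc⟩ := hqo; omega))
      rw [Subgroup.card_top, GL.card_units_field, Nat.factorization_def _ Nat.prime_two]
    · have ha : v2 (q - 1) = 1 := v2_eq_one_of_mod_four (by obtain ⟨c, hc⟩ := hqo; omega)
      obtain ⟨u, v, h, hd⟩ := exists_sdData_linear (F := F) (by obtain ⟨c, hc⟩ := hqo; omega)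
      rw [hCdef, ha, Nat.add_sub_cancel, show 2 * 1 + v2 (q + 1) = v2 (q + 1) + 1 + 1 by omega]
      exact exists_base_sd (linFamily F) h2 hd (Subgroup.mem_top _) (Subgroup.mem_top _)
  refine isPronormal_of_family (linFamily F) D h2 C (by omega) _ hD hbase j n hn SpecialLinearGroup.toGL ?_ ?_ hfac
    (QuotientGroup.mk' (Subgroup.center (SpecialLinearGroup (Fin n) F))) (QuotientGroup.mk'_surjective _) ?_ H hH
  · intro a b h
    exact SpecialLinearGroup.toGL_injective h
  · rw [← GL.det_ker_eq_range_toGL]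
    exact (top_inf_eq _).symm
  · rw [QuotientGroup.ker_mk']

/-- Subgroups of index prime to the characteristic of `PSL_n` are pronormal. -/
theorem isPronormal_psl_char (p : ℕ) [Fact p.Prime] [CharP F p] (n : ℕ)
    (H : Subgroup (ProjectiveSpecialLinearGroup (Fin n) F)) (hH : ¬ p ∣ H.index) : Cfsg.IsPronormal H := by
  set G := (GeneralLinearGroup.det : GL (Fin n) F →* Fˣ).ker
  let e : G ≃* SpecialLinearGroup (Fin n) F :=
    ((MonoidHom.ofInjective (f := (SpecialLinearGroup.toGL : SpecialLinearGroup (Fin n) F →* GL (Fin n) F))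
      SpecialLinearGroup.toGL_injective).trans (MulEquiv.subgroupCongr GL.det_ker_eq_range_toGL.symm)).symm
  let f : G →* ProjectiveSpecialLinearGroup (Fin n) F :=
    (QuotientGroup.mk' (Subgroup.center (SpecialLinearGroup (Fin n) F))).comp e.toMonoidHom
  have hf : Function.Surjective f := (QuotientGroup.mk'_surjective _).comp e.surjective
  refine isPronormal_of_comap f hf H (frame_det_ker.isPronormal p _ ?_)
  rwa [Subgroup.index_comap_of_surjective H hf]

end Cfsg.Agent.Pronormal
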