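import Mathlib
import Cfsg.Agent.Lib.Pronormal.Basic
import Cfsg.Agent.Lib.PSL2.Klein
import Cfsg.Agent.Lib.PSL2.Circle
import Cfsg.Agent.Lib.PSL2.Dickson
import Cfsg.Agent.Lib.PSL2.DicksonOrders
import Cfsg.Agent.Lib.PSL2.Sylow
import Cfsg.Agent.Lib.PSL2.SmallIso

/-!
Odd index subgroups of `PSL(2, q)`, `q` odd, are pronormal.
-/

set_option autoImplicit false

open scoped MatrixGroups

namespace Cfsg.Agent.Pronormal

open Cfsg.Agent.PSL2

variable {F : Type*} [Field F] [Fintype F]

/-- An element of odd order centralizing a four group of `PSL(2, q)` is trivial. -/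
theorem eq_one_of_commute_pair (h2 : (2 : F) ≠ 0) {a b x : PSL(2, F)} (h : IsInvPair a b)
    (ha : Commute x a) (hb : Commute x b) (hx : Odd (orderOf x)) : x = 1 := by
  obtain ⟨g, rfl, hg, -⟩ := exists_tr_eq_zero h.1
  obtain ⟨w, hw, rfl⟩ := exists_lift h2 hg h
  obtain ⟨k, rfl⟩ := mk_surjective x
  have hsq : ∀ y : SL(2, F), Commute (mk k) (mk y) → Commute (k * k) y := by
    intro y hy
    have h' : k * y * k⁻¹ = y ∨ k * y * k⁻¹ = -y := psl_commute_iff.1 hy
    have h3 : k * k * y * (k * k)⁻¹ = y := by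
      rw [show k * k * y * (k * k)⁻¹ = k * (k * y * k⁻¹) * k⁻¹ by group]
      rcases h' with e | e <;> rw [e]
      · exact e
      · rw [mul_neg, neg_mul, e, neg_neg]
    exact mul_inv_eq_iff_eq_mul.1 h3
  have h1 : k * k ∈ cent g := mem_cent.2 (hsq g ha)
  have hw' : w ∈ Subgroup.normalizer (cent g : Set SL(2, F)) :=
    (mem_normalizer_cent hw.h4).2 (Or.inr hw.conj)
  have h3 := inverting_of_mem_normalizer hw.h4 hw' (not_mem_cent_of_inverting hw.h4 hw.conj) _ h1
  rw [(hsq w hb).symm.eq, mul_inv_cancel_right] at h3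
  have h4 : k * k * (k * k) = 1 := by
    nth_rw 1 [h3]
    exact inv_mul_cancel _
  have h5 : mk k * mk k = 1 := by
    rcases eq_pm_of_mul_self_eq_one h2 h4 with e | e
    · rw [← map_mul, e, map_one]
    · rw [← map_mul, e, mk_neg_one]
  have hd : orderOf (mk k) ∣ 2 := orderOf_dvd_of_pow_eq_one (by rw [pow_two, h5])
  rcases (Nat.dvd_prime Nat.prime_two).1 hd with e | e
  · exact orderOf_eq_one_iff.1 e
  · exact absurd (e ▸ hx) (by decide)

/-- Odd order elements normalizing a cyclic `2`-group centralize it. -/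
theorem commute_of_conj_zpow {G : Type*} [Group G] {x Y : G} {k : ℕ} (hk : 1 ≤ k) (hY : orderOf Y = 2 ^ k)
    (hx : Odd (orderOf x)) {j : ℤ} (hj : x * Y * x⁻¹ = Y ^ j) : x * Y = Y * x := by
  have hN := pow_orderOf_eq_one x
  have hiter : ∀ n : ℕ, x ^ n * Y * (x ^ n)⁻¹ = Y ^ (j ^ n) := by
    intro n
    induction n with
    | zero => simp
    | succ n ih =>
      rw [show x ^ (n + 1) * Y * (x ^ (n + 1))⁻¹ = x * (x ^ n * Y * (x ^ n)⁻¹) * x⁻¹ by rw [pow_succ']; group,
        ih, ← conj_zpow, hj, ← zpow_mul, pow_succ']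
  have hjN := hiter (orderOf x)
  rw [hN, one_mul, inv_one, mul_one] at hjN
  have hdvd : ((2 ^ k : ℕ) : ℤ) ∣ j ^ orderOf x - 1 := by
    rw [← hY, orderOf_dvd_iff_zpow_eq_one, zpow_sub, ← hjN, zpow_one, mul_inv_cancel]
  have hjodd : Odd j := by
    have h2d : (2 : ℤ) ∣ j ^ orderOf x - 1 := dvd_trans (by push_cast; exact dvd_pow_self 2 (by omega)) hdvd
    have : Odd (j ^ orderOf x) := by
      obtain ⟨c, hc⟩ := h2d
      exact ⟨c, by omega⟩
    exact (Int.odd_pow' hx.pos.ne').1 this
  have hj1 : ((2 ^ k : ℕ) : ℤ) ∣ j - 1 := by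
    rw [← geom_sum_mul] at hdvd
    refine IsCoprime.dvd_of_dvd_mul_left ?_ hdvd
    push_cast
    refine IsCoprime.pow_left ?_
    have key : ∀ n : ℕ, Odd (∑ i ∈ Finset.range n, j ^ i) ↔ Odd n := by
      intro n
      induction n with
      | zero => simp
      | succ n ih =>
        rw [Finset.sum_range_succ, Int.odd_add', Nat.odd_add_one, ← Int.not_odd_iff_even, ih]
        exact ⟨fun h => h.1 hjodd.pow, fun h => iff_of_true hjodd.pow h⟩
    obtain ⟨c, hc⟩ := (key (orderOf x)).2 hx
    exact ⟨-c, 1, by rw [hc]; ring⟩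
  have hYj : Y ^ j = Y := by
    have : Y ^ (j - 1) = 1 := by
      rw [← orderOf_dvd_iff_zpow_eq_one, hY]; exact hj1
    rw [zpow_sub, zpow_one, mul_inv_eq_one] at this
    exact this
  rw [hYj, mul_inv_eq_iff_eq_mul] at hj
  exact hj

/-- The case `16 ∣ q^2 - 1`: the Sylow 2-subgroup is self-normalizing. -/
theorem isPronormal_psl_two_big (h2 : (2 : F) ≠ 0) (h16 : 16 ∣ Fintype.card F ^ 2 - 1)
    (H : Subgroup PSL(2, F)) (hH : Odd H.index) : Cfsg.IsPronormal H := by
  haveI : Fact (Nat.Prime 2) := ⟨Nat.prime_two⟩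
  obtain ⟨T, X, t, k, hT⟩ := Circle.exists_dihedral_sylow h2 h16
  refine isPronormal_of_odd_normalizer (MonoidHom.id _) Function.surjective_id T ?_ H hH
  intro x hx hodd
  rw [MonoidHom.mem_ker, MonoidHom.id_apply]
  have hk := hT.two_le
  have hn : ∀ s ∈ (T : Subgroup PSL(2, F)), x * s * x⁻¹ ∈ (T : Subgroup PSL(2, F)) :=
    fun s hs => (Subgroup.mem_normalizer_iff.1 hx s).1 hs
  have hsq : ∀ i : ℤ, (X ^ i * t) * (X ^ i * t) = 1 := fun i => by
    rw [show X ^ i * t * (X ^ i * t) = X ^ i * (t * X ^ i * t⁻¹) * (t * t) by group, hT.conj_zpow, hT.ht,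
      mul_one, ← zpow_add, add_neg_cancel, zpow_zero]
  have hXbig : ¬ X * X = 1 := fun e => by
    have := Nat.le_of_dvd two_pos (orderOf_dvd_of_pow_eq_one (n := 2) (by rw [pow_two, e]) : orderOf X ∣ 2)
    have := Nat.pow_le_pow_right two_pos hk
    rw [hT.order] at *
    omega
  have hxX : x * X = X * x := by
    rcases hT.cases (hn X hT.x_mem) with ⟨j, hj⟩ | ⟨j, hj⟩
    · exact commute_of_conj_zpow (by omega) hT.order hodd hj
    · exfalso
      refine hXbig ?_
      have h := hsq j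
      rw [← hj, show x * X * x⁻¹ * (x * X * x⁻¹) = x * (X * X) * x⁻¹ by group] at h
      exact mul_left_cancel (a := x) (mul_right_cancel (b := x⁻¹) (by rw [h]; simp))
  have htX : ∀ i : ℤ, t ≠ X ^ i := fun i e => by
    refine hXbig ?_
    have := hT.inv
    rw [e, ((Commute.refl X).zpow_left i).eq, mul_inv_cancel_right] at this
    nth_rw 1 [this]
    exact inv_mul_cancel X
  have hxt : x * t = t * x := by
    have hcomm : ∀ i : ℤ, x * X ^ i * x⁻¹ = X ^ i := fun i => by
      rw [((show Commute x X from hxX).zpow_right i).eq, mul_inv_cancel_right]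
    rcases hT.cases (hn t hT.t_mem) with ⟨i, hi⟩ | ⟨i, hi⟩
    · exfalso
      refine htX i ?_
      rw [← hcomm i] at hi
      simpa using congrArg (fun g => x⁻¹ * g * x) hi
    · have hit : ∀ n : ℕ, x ^ n * t * (x ^ n)⁻¹ = X ^ (i * n) * t := by
        intro n
        induction n with
        | zero => simp
        | succ n ih =>
          rw [show x ^ (n + 1) * t * (x ^ (n + 1))⁻¹ = x * (x ^ n * t * (x ^ n)⁻¹) * x⁻¹ by rw [pow_succ']; group,
            ih, show x * (X ^ (i * n) * t) * x⁻¹ = (x * X ^ (i * (n : ℤ)) * x⁻¹) * (x * t * x⁻¹) by group,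
            hi, hcomm, ← mul_assoc, ← zpow_add]
          congr 2; push_cast; ring
      have hN' := hit (orderOf x)
      rw [pow_orderOf_eq_one, one_mul, inv_one, mul_one] at hN'
      have hXi : X ^ i = 1 := by
        have h1 : (X ^ i) ^ orderOf x = 1 := by
          rw [← zpow_natCast, ← zpow_mul]
          exact mul_right_cancel (b := t) (by rw [← hN', one_mul])
        have h2' : (X ^ i) ^ 2 ^ k = 1 := by
          rw [← zpow_natCast, ← zpow_mul, mul_comm, zpow_mul, zpow_natCast, ← hT.order, pow_orderOf_eq_one, one_zpow]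
        have := Nat.dvd_gcd (orderOf_dvd_of_pow_eq_one h2') (orderOf_dvd_of_pow_eq_one h1)
        rw [Nat.Coprime.pow_left k (Nat.coprime_two_left.2 hodd), Nat.dvd_one] at this
        exact orderOf_eq_one_iff.1 this
      rw [hXi, one_mul, mul_inv_eq_iff_eq_mul] at hi
      exact hi
  obtain ⟨m, rfl⟩ : ∃ m, k = m + 1 := ⟨k - 1, by omega⟩
  have ht2 : orderOf t = 2 := orderOf_eq_prime (by rw [pow_two, hT.ht]) (fun e => htX 0 (by simp [e]))
  have hz2 : orderOf (X ^ 2 ^ m) = 2 := by
    rw [orderOf_pow' _ (by positivity), hT.order, Nat.gcd_eq_right (pow_dvd_pow 2 (Nat.le_succ m)),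
      Nat.pow_div (Nat.le_succ m) two_pos, show m.succ - m = 1 by omega, pow_one]
  have hinvz : (X ^ 2 ^ m)⁻¹ = X ^ 2 ^ m :=
    inv_eq_of_mul_eq_one_right (by have := pow_orderOf_eq_one (X ^ 2 ^ m); rwa [hz2, pow_two] at this)
  refine eq_one_of_commute_pair h2 (a := X ^ 2 ^ m) (b := t) ⟨hz2, ht2, ?_, ?_⟩
    ((show Commute x X from hxX).pow_right _) hxt hodd
  · show X ^ 2 ^ m * t = t * X ^ 2 ^ m
    have h := hT.conj_zpow ((2 ^ m : ℕ) : ℤ)
    rw [zpow_natCast, zpow_neg, zpow_natCast, hinvz, mul_inv_eq_iff_eq_mul] at h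
    exact h.symm
  · intro e
    exact htX ((2 ^ m : ℕ) : ℤ) (by rw [zpow_natCast, e])

theorem alternatingFour_normal_three :
    ∀ g : alternatingGroup (Fin 4), g ^ 3 = 1 → g ≠ 1 →
      ∃ h : alternatingGroup (Fin 4), h * g * h⁻¹ ≠ g ∧ h * g * h⁻¹ ≠ g⁻¹ ∧ h * g * h⁻¹ ≠ 1 := by
  decide

/-- Groups of order divisible by `4` but not `8` with a normal subgroup of odd order complementing
the Sylow subgroup are not of the exceptional types. -/
theorem not_iso_of_complement {J : Type*} [Group J] [Finite J] (L : Subgroup J) [L.Normal]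
    (hodd : Odd (Nat.card L)) (hcard : Nat.card J = 4 * Nat.card L) :
    ¬ Nonempty (J ≃* alternatingGroup (Fin 4)) ∧
      ∀ (S : Type) [Group S], IsSimpleGroup S → 4 < Nat.card S → ¬ Nonempty (J ≃* S) := by
  refine ⟨?_, ?_⟩
  · rintro ⟨e⟩
    have h12 : Nat.card J = 12 := by
      rw [Nat.card_congr e.toEquiv, nat_card_alternatingGroup, Nat.card_fin]; rfl
    have hL3 : Nat.card L = 3 := by omega
    haveI : Fact (Nat.Prime 3) := ⟨Nat.prime_three⟩
    obtain ⟨l, hl⟩ := exists_prime_orderOf_dvd_card' (G := L) 3 (by rw [hL3])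
    have hlj : orderOf (l : J) = 3 := by rw [Subgroup.orderOf_coe, hl]
    obtain ⟨h, h1, h1', h0⟩ := alternatingFour_normal_three (e l)
      (by rw [← map_pow, ← hlj, pow_orderOf_eq_one, map_one])
      (fun e1 => by
        have : (l : J) = 1 := e.injective (by rw [e1, map_one])
        rw [this, orderOf_one] at hlj; omega)
    have hmem : e.symm h * l * (e.symm h)⁻¹ ∈ L := (inferInstance : L.Normal).conj_mem _ l.2 _
    have htop : Subgroup.zpowers l = ⊤ := Subgroup.eq_top_of_card_eq _ (by rw [Nat.card_zpowers, hl, hL3])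
    have hmz : (⟨_, hmem⟩ : L) ∈ Subgroup.zpowers l := htop ▸ Subgroup.mem_top _
    obtain ⟨i, hi⟩ := hmz
    have hi' : e (l : J) ^ i = h * e l * h⁻¹ := by
      have := congrArg (fun z : L => e (z : J)) hi
      simpa using this
    have h3 : e (l : J) ^ (3 : ℤ) = 1 := by
      rw [show (3 : ℤ) = ((3 : ℕ) : ℤ) from rfl, zpow_natCast, ← map_pow, ← hlj, pow_orderOf_eq_one, map_one]
    rw [← Int.emod_add_mul_ediv i 3, zpow_add, zpow_mul, h3, one_zpow, mul_one] at hi'
    rcases (show i % 3 = 0 ∨ i % 3 = 1 ∨ i % 3 = 2 by omega) with e3 | e3 | e3 <;> rw [e3] at hi'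
    · exact h0 (by rw [← hi', zpow_zero])
    · exact h1 (by rw [← hi', zpow_one])
    · refine h1' ?_
      rw [← hi']
      refine eq_inv_of_mul_eq_one_left ?_
      rw [← zpow_add_one]; exact h3
  · rintro S _ hS hbig ⟨e⟩
    rw [← Nat.card_congr e.toEquiv] at hbig
    haveI := (e.isSimpleGroup_congr).2 hS
    rcases (inferInstance : L.Normal).eq_bot_or_eq_top with h | h
    · rw [h, Subgroup.card_bot] at hcard; omega
    · rw [h, Subgroup.card_top] at hcard; have := Nat.card_pos (α := J); omega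

/-- The case `q ≡ ±3 (mod 8)`: the Sylow 2-subgroup is a four group. -/
theorem isPronormal_psl_two_small (hq : Fintype.card F % 8 = 3 ∨ Fintype.card F % 8 = 5)
    (H : Subgroup PSL(2, F)) (hH : Odd H.index) : Cfsg.IsPronormal H := by
  haveI : Fact (Nat.Prime 2) := ⟨Nat.prime_two⟩
  set q := Fintype.card F with hqdef
  have h2 : (2 : F) ≠ 0 := by rw [← odd_card_iff, Nat.odd_iff]; omega
  have hqsq : 8 ∣ q ^ 2 - 1 ∧ ¬ 16 ∣ q ^ 2 - 1 := by
    obtain ⟨c, hc⟩ : ∃ c, q = 8 * c + q % 8 := ⟨q / 8, by omega⟩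
    rcases hq with e | e <;> rw [e] at hc <;> rw [hc]
    · rw [show (8 * c + 3) ^ 2 = 16 * (4 * c * c + 3 * c) + 9 by ring]
      exact ⟨by omega, by omega⟩
    · rw [show (8 * c + 5) ^ 2 = 16 * (4 * c * c + 5 * c + 1) + 9 by ring]
      exact ⟨by omega, by omega⟩
  have h8 : ¬ 8 ∣ Nat.card PSL(2, F) := by
    rintro ⟨c, hc⟩
    have h := two_mul_card_PSL (F := F) h2
    rw [hc, ← hqdef] at h
    exact hqsq.2 ((Nat.Coprime.pow_left 4 (Nat.coprime_two_left.2 (Nat.odd_iff.2 (by omega : q % 2 = 1)))).dvd_of_dvd_mul_left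
      (show 2 ^ 4 ∣ q * (q ^ 2 - 1) from ⟨c, by omega⟩))
  intro g
  obtain ⟨R⟩ : Nonempty (Sylow 2 H) := inferInstance
  obtain ⟨S, hS⟩ : ∃ S : Sylow 2 PSL(2, F), (S : Subgroup PSL(2, F)) = R.1.map H.subtype := by
    refine ⟨Sylow.ofCard (R.1.map H.subtype) ?_, rfl⟩
    rw [Subgroup.card_map_of_injective H.subtype_injective, R.card_eq_multiplicity,
      ← H.card_mul_index, Nat.factorization_mul Nat.card_pos.ne' Subgroup.index_ne_zero_of_finite,
      Finsupp.add_apply, Nat.factorization_eq_zero_of_not_dvd (show ¬ 2 ∣ H.index from fun h => Nat.not_even_iff_odd.2 hH (even_iff_two_dvd.2 h)), add_zero]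
  have hSH : (S : Subgroup PSL(2, F)) ≤ H := hS ▸ Subgroup.map_subtype_le _
  set V : Subgroup PSL(2, F) := (S : Subgroup PSL(2, F)) with hVdef
  have hV4 : Nat.card V = 4 := card_sylow_two_psl hq S
  haveI hVk : IsKleinFour V := by
    obtain ⟨k, hk, hk', ⟨e⟩⟩ := sylow_two_dihedral h2 S
    have hV4' : Nat.card (S : Subgroup PSL(2, F)) = 4 := hV4
    rw [hV4'] at hk'
    obtain rfl : k = 1 := by
      have : 2 ^ (k + 1) = 2 ^ 2 := by rw [← hk']; rfl
      have := Nat.pow_right_injective le_rfl this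
      omega
    exact ⟨hV4, by rw [Monoid.exponent_eq_of_mulEquiv e]; exact DihedralGroup.exponent.trans (by rfl)⟩
  obtain ⟨a, b, hab, hVeq⟩ : ∃ a b, ∃ h : IsInvPair a b, V = klein a b h := by
    obtain ⟨a, ha, ha1, -⟩ := exists_mem_ne hVk 1
    obtain ⟨b, hb, hb1, hba⟩ := exists_mem_ne hVk a
    exact ⟨a, b, isInvPair_of_mem hVk ha hb ha1 hb1 hba.symm, eq_klein hVk _ ha hb⟩
  have hfix : ∀ m ∈ Subgroup.normalizer (V : Set PSL(2, F)), Odd (orderOf m) → ∀ v ∈ V, v ≠ 1 →
      Commute m v → m = 1 := by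
    intro m hm hodd v hv hv1 hmv
    obtain ⟨u, hu, hu1, huv⟩ := exists_mem_ne hVk v
    have hconj : ∀ z ∈ V, m * z * m⁻¹ ∈ V := fun z hz => (Subgroup.mem_normalizer_iff.1 hm z).1 hz
    have hp : IsInvPair v u := isInvPair_of_mem hVk hv hu hv1 hu1 huv.symm
    have hcases : ∀ z ∈ V, z = 1 ∨ z = v ∨ z = u ∨ z = v * u := by
      intro z hz
      rw [eq_klein hVk hp hv hu, mem_klein] at hz
      exact hz
    have hne1 : m * u * m⁻¹ ≠ 1 := fun e => hu1 (by simpa using e)
    have hnev : m * u * m⁻¹ ≠ v := fun e => huv (by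
      have := congrArg (fun z => m⁻¹ * z * m) e
      simp only [show m⁻¹ * (m * u * m⁻¹) * m = u by group] at this
      rw [this, mul_assoc, ← hmv.eq, inv_mul_cancel_left])
    have h2u : m ^ 2 * u * (m ^ 2)⁻¹ = u := by
      rcases hcases _ (hconj u hu) with e | e | e | e
      · exact absurd e hne1
      · exact absurd e hnev
      · rw [show m ^ 2 * u * (m ^ 2)⁻¹ = m * (m * u * m⁻¹) * m⁻¹ by rw [pow_two]; group, e, e]
      · rw [show m ^ 2 * u * (m ^ 2)⁻¹ = m * (m * u * m⁻¹) * m⁻¹ by rw [pow_two]; group, e,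
          show m * (v * u) * m⁻¹ = (m * v * m⁻¹) * (m * u * m⁻¹) by group, e, hmv.eq, mul_inv_cancel_right,
          ← mul_assoc, IsInvPair.sq hp.1, one_mul]
    obtain ⟨c, hc⟩ := hodd
    have hu' : Commute m u := by
      have h2c : Commute (m ^ 2) u := mul_inv_eq_iff_eq_mul.1 h2u
      have hpow := h2c.pow_left (c + 1)
      rwa [← pow_mul, show 2 * (c + 1) = (2 * c + 1) + 1 by ring, pow_succ, ← hc, pow_orderOf_eq_one, one_mul] at hpow
    exact eq_one_of_commute_pair h2 hp hmv hu' ⟨c, hc⟩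
  have hfix' : ∀ m ∈ Subgroup.normalizer (V : Set PSL(2, F)), ∀ v ∈ V, v ≠ 1 → Commute m v → m ∈ V := by
    intro m hm v hv hv1 hmv
    obtain ⟨k, M, hM, hkM⟩ := Nat.exists_eq_two_pow_mul_odd (orderOf_pos m).ne'
    have h1 : m ^ 2 ^ k = 1 := hfix _ (Subgroup.pow_mem _ hm _)
      (hM.of_dvd_nat (orderOf_dvd_of_pow_eq_one (by rw [← pow_mul, ← hkM, pow_orderOf_eq_one]))) v hv hv1
      (hmv.pow_left _)
    have hp : IsPGroup 2 (Subgroup.zpowers m) := by
      obtain ⟨j, -, hj⟩ := (Nat.dvd_prime_pow Nat.prime_two).1 (orderOf_dvd_of_pow_eq_one h1)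
      exact IsPGroup.of_card (by rw [Nat.card_zpowers, hj])
    have hsup := S.isPGroup'.to_sup_of_normal_left' hp (Subgroup.zpowers_le.2 hm)
    exact (le_of_eq (S.is_maximal' hsup le_sup_left)) (Subgroup.mem_sup_right (Subgroup.mem_zpowers _))
  have haV : a ∈ V := by rw [hVeq, mem_klein]; tauto
  have ha1 : a ≠ 1 := fun e => by have := hab.1; rw [e, orderOf_one] at this; omega
  have hVcomm : ∀ u ∈ V, ∀ v ∈ V, u * v = v * u := by
    intro u hu v hv
    exact congrArg Subtype.val (mul_comm_of_exponent_two hVk.exponent_two ⟨u, hu⟩ ⟨v, hv⟩)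
  -- the key step: odd order elements of the normalizer
  have key : ∀ n ∈ Subgroup.normalizer (V : Set PSL(2, F)), Odd (orderOf n) →
      ∃ x ∈ H ⊔ H.map (MulAut.conj n).toMonoidHom,
        H.map (MulAut.conj n).toMonoidHom = H.map (MulAut.conj x).toMonoidHom := by
    intro n hn hodd
    by_cases hn1 : n = 1
    · exact ⟨1, Subgroup.one_mem _, by rw [hn1]⟩
    have hconj : ∀ z ∈ V, n * z * n⁻¹ ∈ V := fun z hz => (Subgroup.mem_normalizer_iff.1 hn z).1 hz
    set J := H ⊔ H.map (MulAut.conj n).toMonoidHom with hJ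
    have hVJ : V ≤ J := hSH.trans le_sup_left
    by_cases hex : ∃ m ∈ J, m ∈ Subgroup.normalizer (V : Set PSL(2, F)) ∧ m ∉ V
    · obtain ⟨m, hmJ, hm, hmV⟩ := hex
      refine ⟨n, ?_, rfl⟩
      have hcases : ∀ z ∈ V, z = 1 ∨ z = a ∨ z = b ∨ z = a * b := by
        intro z hz
        rwa [hVeq, mem_klein] at hz
      have hna : n * a * n⁻¹ ≠ a := fun e => hn1 (hfix n hn hodd a haV ha1 (mul_inv_eq_iff_eq_mul.1 e))
      have hn2a : n ^ 2 * a * (n ^ 2)⁻¹ ≠ a := by
        intro e
        obtain ⟨c, hc⟩ := hodd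
        have h2c : Commute (n ^ 2) a := mul_inv_eq_iff_eq_mul.1 e
        have hpow := h2c.pow_left (c + 1)
        rw [← pow_mul, show 2 * (c + 1) = (2 * c + 1) + 1 by ring, pow_succ, ← hc, pow_orderOf_eq_one, one_mul] at hpow
        exact hna (by rw [hpow.eq, mul_inv_cancel_right])
      have hn2n : n ^ 2 * a * (n ^ 2)⁻¹ ≠ n * a * n⁻¹ := by
        intro e
        have e' := congrArg (fun z => n⁻¹ * z * n) e
        simp only [show n⁻¹ * (n ^ 2 * a * (n ^ 2)⁻¹) * n = n * a * n⁻¹ by rw [pow_two]; group,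
          show n⁻¹ * (n * a * n⁻¹) * n = a by group] at e'
        exact hna e'
      have hne1 : ∀ z : PSL(2, F), z * a * z⁻¹ ≠ 1 := fun z e => ha1 (mul_left_cancel (a := z) (mul_right_cancel (b := z⁻¹) (by rw [e]; simp)))
      have hma : m * a * m⁻¹ ≠ a := fun e => hmV (hfix' m hm a haV ha1 (mul_inv_eq_iff_eq_mul.1 e))
      have hn2mem : n ^ 2 * a * (n ^ 2)⁻¹ ∈ V := by
        rw [show n ^ 2 * a * (n ^ 2)⁻¹ = n * (n * a * n⁻¹) * n⁻¹ by rw [pow_two]; group]
        exact hconj _ (hconj _ haV)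
      have hor : m * a * m⁻¹ = n * a * n⁻¹ ∨ m * a * m⁻¹ = n ^ 2 * a * (n ^ 2)⁻¹ := by
        have h1 := hcases _ ((Subgroup.mem_normalizer_iff.1 hm a).1 haV)
        have h2' := hcases _ (hconj a haV)
        have h3 := hcases _ hn2mem
        grind
      have hfin : ∀ i : ℕ, m * a * m⁻¹ = n ^ i * a * (n ^ i)⁻¹ → n ^ i ∈ J := by
        intro i e
        have hc : Commute ((n ^ i)⁻¹ * m) a := by
          refine mul_inv_eq_iff_eq_mul.1 ?_
          rw [show (n ^ i)⁻¹ * m * a * ((n ^ i)⁻¹ * m)⁻¹ = (n ^ i)⁻¹ * (m * a * m⁻¹) * n ^ i by group, e]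
          group
        have hv := hfix' _ (mul_mem (inv_mem (Subgroup.pow_mem _ hn i)) hm) a haV ha1 hc
        have := mul_mem hmJ (inv_mem (hVJ hv))
        rwa [show m * ((n ^ i)⁻¹ * m)⁻¹ = n ^ i by group] at this
      rcases hor with e | e
      · simpa using hfin 1 (by simpa using e)
      · obtain ⟨c, hc⟩ := hodd
        have h2J := hfin 2 e
        have := Subgroup.pow_mem J h2J (c + 1)
        rwa [← pow_mul, show 2 * (c + 1) = (2 * c + 1) + 1 by ring, pow_succ, ← hc, pow_orderOf_eq_one, one_mul] at this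
    · push Not at hex
      refine ⟨1, Subgroup.one_mem _, ?_⟩
      -- normal 2-complement
      set P : Sylow 2 J := S.subtype hVJ with hP
      have hPmem : ∀ z : J, z ∈ (P : Subgroup J) ↔ (z : PSL(2, F)) ∈ V := fun z => Iff.rfl
      have hNC : Subgroup.normalizer ((P : Subgroup J) : Set J) ≤ Subgroup.centralizer ((P : Subgroup J) : Set J) := by
        intro z hz
        have hzV : (z : PSL(2, F)) ∈ V := by
          refine hex z z.2 (Subgroup.mem_normalizer_iff.2 fun y => ⟨fun hy => ?_, fun hy => ?_⟩)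
          · exact (Subgroup.mem_normalizer_iff.1 hz ⟨y, hVJ hy⟩).1 hy
          · have := (Subgroup.mem_normalizer_iff.1 (inv_mem hz) ⟨_, hVJ hy⟩).1 hy
            simpa [hPmem, mul_assoc] using this
        rw [Subgroup.mem_centralizer_iff]
        intro y hy
        exact Subtype.ext (hVcomm _ hy _ hzV)
      set L := (MonoidHom.transferSylow P hNC).ker with hL
      have hcompl := MonoidHom.ker_transferSylow_isComplement' P hNC
      have hP4 : Nat.card (P : Subgroup J) = 4 := by
        rw [hP, Sylow.coe_subtype, Nat.card_congr (Subgroup.subgroupOfEquivOfLe hVJ).toEquiv, hV4]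
      have hJcard : Nat.card J = 4 * Nat.card L := by
        rw [← hcompl.card_mul_card, hP4, mul_comm]
      have hJ8 : ¬ 8 ∣ Nat.card J := fun h => h8 (h.trans (Subgroup.card_subgroup_dvd_card J))
      have hLodd : Odd (Nat.card L) := by
        rcases Nat.even_or_odd (Nat.card L) with ⟨c, hc⟩ | h
        · exact absurd ⟨c, by omega⟩ hJ8
        · exact h
      obtain ⟨hA4, hsimple⟩ := not_iso_of_complement L hLodd hJcard
      obtain ⟨p, hp⟩ := CharP.exists F
      obtain ⟨mp, hpp, hmp⟩ := FiniteField.card F p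
      haveI : Fact p.Prime := ⟨hpp⟩
      rcases dickson p J with ⟨k, hk, hc | ⟨⟨e⟩⟩⟩ | ⟨Q, hQ⟩ | he | ⟨⟨e⟩⟩ | ⟨⟨e⟩⟩ | ⟨K, _, _, mm, hKm, he⟩
      · exfalso
        haveI := hc.1
        haveI : IsCyclic V := isCyclic_of_injective (Subgroup.inclusion hVJ) (Subgroup.inclusion_injective hVJ)
        exact hVk.not_isCyclic inferInstance
      · -- a central involution
        have hcardJ : Nat.card J = 2 * k := by rw [Nat.card_congr e.toEquiv, DihedralGroup.nat_card]
        obtain ⟨r, hr⟩ : ∃ r, k = 2 * r := ⟨k / 2, by omega⟩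
        have hrne : r ≠ 0 := by
          rintro rfl
          have := Nat.card_pos (α := J)
          omega
        set zz : DihedralGroup k := DihedralGroup.r (r : ZMod k) with hzz
        have hzzne : zz ≠ 1 := by
          intro h
          have h' : ((r : ℕ) : ZMod k) = 0 := DihedralGroup.r.inj (h.trans DihedralGroup.one_def)
          rw [ZMod.natCast_eq_zero_iff] at h'
          have := Nat.le_of_dvd (Nat.pos_of_ne_zero hrne) h'
          omega
        have h2r : (r : ZMod k) + (r : ZMod k) = 0 := by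
          rw [← Nat.cast_add, show r + r = k by omega, ZMod.natCast_self]
        have hzzc : ∀ y : DihedralGroup k, zz * y = y * zz := by
          rintro (i | i)
          · simp [hzz, add_comm]
          · simp only [hzz, DihedralGroup.r_mul_sr, DihedralGroup.sr_mul_r]
            congr 1
            linear_combination -h2r
        set zJ : J := e.symm zz with hzJ
        have hzc : ∀ y ∈ J, Commute (zJ : PSL(2, F)) y := fun y hy => by
          have : zJ * ⟨y, hy⟩ = ⟨y, hy⟩ * zJ := e.injective (by rw [map_mul, map_mul, hzJ, e.apply_symm_apply, hzzc])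
          exact congrArg Subtype.val this
        have hz1 : (zJ : PSL(2, F)) ≠ 1 := fun h => hzzne (by
          have : zJ = 1 := Subtype.ext h
          rw [← e.apply_symm_apply zz, ← hzJ, this, map_one])
        have hzV : (zJ : PSL(2, F)) ∈ V := by
          refine hfix' _ ?_ a haV ha1 (hzc a (hVJ haV))
          rw [Subgroup.mem_normalizer_iff]
          intro y
          constructor
          · intro hy; rwa [(hzc y (hVJ hy)).eq, mul_inv_cancel_right]
          · intro hy
            have := hzc _ (hVJ hy)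
            rw [show y = (zJ : PSL(2, F))⁻¹ * ((zJ : PSL(2, F)) * y * (zJ : PSL(2, F))⁻¹) * zJ by group,
              mul_assoc, ← this.eq, inv_mul_cancel_left]
            exact hy
        set z' := n⁻¹ * (zJ : PSL(2, F)) * n with hz'
        have hz'V : z' ∈ V := by
          have := (Subgroup.mem_normalizer_iff.1 (inv_mem hn) _).1 hzV
          rwa [inv_inv] at this
        have hz'1 : z' ≠ 1 := fun h => hz1 (mul_left_cancel (a := n⁻¹) (mul_right_cancel (b := n) (by rw [← hz', h]; simp)))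
        have hz'ne : z' ≠ zJ := fun h => hn1 (hfix n hn hodd _ hzV hz1 (by
          have := congrArg (n * ·) h
          simp only [hz', ← mul_assoc, mul_inv_cancel, one_mul] at this
          exact this.symm))
        have hpair := isInvPair_of_mem hVk hzV hz'V hz1 hz'1 hz'ne.symm
        have hHV : H = V := by
          refine le_antisymm (fun y hy => ?_) hSH
          have h1 := hzc y (Subgroup.mem_sup_left hy)
          have h2' : Commute z' y := by
            have := hzc (n * y * n⁻¹) (Subgroup.mem_sup_right ⟨y, hy, rfl⟩)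
            show n⁻¹ * zJ * n * y = y * (n⁻¹ * zJ * n)
            rw [show n⁻¹ * (zJ : PSL(2, F)) * n * y = n⁻¹ * ((zJ : PSL(2, F)) * (n * y * n⁻¹)) * n by group,
              this.eq]
            group
          refine hfix' y ?_ _ hzV hz1 h1.symm
          rw [Subgroup.mem_normalizer_iff]
          intro v
          have hyv : ∀ v ∈ V, Commute y v := by
            intro v hv
            rw [eq_klein hVk hpair hzV hz'V, mem_klein] at hv
            rcases hv with rfl | rfl | rfl | rfl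
            · exact Commute.one_right y
            · exact h1.symm
            · exact h2'.symm
            · exact h1.symm.mul_right h2'.symm
          constructor
          · intro hv; rwa [(hyv v hv).eq, mul_inv_cancel_right]
          · intro hv
            have := hyv _ hv
            rw [show v = y⁻¹ * (y * v * y⁻¹) * y by group, mul_assoc, ← this.eq, inv_mul_cancel_left]
            exact hv
        rw [hHV]
        ext y
        constructor
        · rintro ⟨v, hv, rfl⟩
          exact ⟨n * v * n⁻¹, hconj v hv, by simp⟩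
        · rintro ⟨v, hv, rfl⟩
          refine ⟨n⁻¹ * v * n, ?_, by simp; group⟩
          have := (Subgroup.mem_normalizer_iff.1 (inv_mem hn) v).1 hv
          rwa [inv_inv] at this
      · exfalso
        have h1 : 4 ∣ Nat.card (Subgroup.normalizer ((Q : Subgroup PSL(2, F)) : Set PSL(2, F))) :=
          (Dvd.intro _ hJcard.symm).trans (Subgroup.card_dvd_of_le hQ)
        have h2' := card_normalizer_sylow p Q
        rw [← hqdef, show Nat.gcd 2 (q - 1) = 2 from Nat.gcd_eq_left (by omega)] at h2'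
        obtain ⟨c, hc⟩ := h1
        rw [hc] at h2'
        have h3 : 8 ∣ (q - 1) * q := ⟨c, by omega⟩
        have h4 := (Nat.Coprime.pow_left 3 (Nat.coprime_two_left.2 (Nat.odd_iff.2 (by omega : q % 2 = 1)))).dvd_of_dvd_mul_right h3
        omega
      · exact absurd he hA4
      · exfalso
        exact hJ8 ⟨3, by rw [Nat.card_congr e.toEquiv, Nat.card_perm, Nat.card_fin]; rfl⟩
      · exfalso
        exact hsimple _ inferInstance (by rw [nat_card_alternatingGroup, Nat.card_fin]; decide) ⟨e⟩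
      · exfalso
        have hKodd : Odd (Fintype.card K) := by
          rcases Nat.even_or_odd (Fintype.card K) with h | h
          · have hqe : Even q := by
              rw [hqdef, ← hKm]
              refine Nat.even_pow.2 ⟨h, ?_⟩
              rintro rfl
              rw [pow_zero] at hKm
              have := Fintype.one_lt_card (α := F)
              omega
            exact absurd hqe (Nat.not_even_iff_odd.2 (Nat.odd_iff.2 (by omega)))
          · exact h
        have hK2 : (2 : K) ≠ 0 := odd_card_iff.1 hKodd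
        have hcardSL : Nat.card SL(2, K) = Fintype.card K * (Fintype.card K ^ 2 - 1) := GL.card_SL2
        have h8K : 8 ∣ Fintype.card K ^ 2 - 1 := Nat.eight_dvd_sq_sub_one_of_odd hKodd
        rcases he with ⟨⟨e⟩⟩ | ⟨⟨e⟩⟩
        · rcases Nat.lt_or_ge (Fintype.card K) 4 with h | h
          · have h3 : Fintype.card K = 3 := by
              have := Fintype.one_lt_card (α := K)
              obtain ⟨c, hc⟩ := hKodd
              omega
            obtain ⟨e'⟩ := psl_three_iso (F := K) h3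
            exact hA4 ⟨e.trans e'⟩
          · refine hsimple _ (psl_isSimpleGroup h) ?_ ⟨e⟩
            have h1 := two_mul_card_PSL (F := K) hK2
            have h2' : 2 * 8 ≤ Fintype.card K * (Fintype.card K ^ 2 - 1) :=
              Nat.mul_le_mul (by omega) (Nat.le_of_dvd (by
                have : 4 ^ 2 ≤ Fintype.card K ^ 2 := Nat.pow_le_pow_left h 2
                omega) h8K)
            omega
        · refine hJ8 ?_
          rw [Nat.card_congr e.toEquiv, GL.card_PGL, hcardSL]
          exact h8K.mul_left _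
  -- reduction to the key step
  set K : Subgroup PSL(2, F) := H ⊔ H.map (MulAut.conj g).toMonoidHom with hK
  have h1 : (S : Subgroup PSL(2, F)) ≤ K := hSH.trans le_sup_left
  have h2' : ((MulAut.conj g) • S : Sylow 2 PSL(2, F)).1 ≤ K := by
    refine le_trans ?_ (le_sup_right : H.map (MulAut.conj g).toMonoidHom ≤ K)
    rintro x ⟨y, hy, rfl⟩
    exact ⟨y, hSH hy, rfl⟩
  obtain ⟨k, hk⟩ := MulAction.exists_smul_eq K (S.subtype h1) (((MulAut.conj g) • S : Sylow 2 PSL(2, F)).subtype h2')
  have hk' : ((MulAut.conj (k : PSL(2, F))) • S : Sylow 2 PSL(2, F)) = (MulAut.conj g) • S := by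
    apply Sylow.subtype_injective (hP := ?_) (hQ := h2')
    · rw [← hk]; exact (Sylow.smul_subtype h1 k).symm
  have hn : (k : PSL(2, F))⁻¹ * g ∈ Subgroup.normalizer (V : Set PSL(2, F)) := by
    refine Sylow.smul_eq_iff_mem_normalizer.1 ?_
    rw [mul_smul, show g • S = (k : PSL(2, F)) • S from hk'.symm, inv_smul_smul]
  set n := (k : PSL(2, F))⁻¹ * g with hndef
  obtain ⟨kk, M, hM, hkM⟩ := Nat.exists_eq_two_pow_mul_odd (orderOf_pos n).ne'
  have hcop : Nat.gcd (2 ^ kk) M = 1 := Nat.Coprime.pow_left kk (Nat.coprime_two_left.2 hM)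
  have hb := Nat.gcd_eq_gcd_ab (2 ^ kk) M
  rw [hcop] at hb
  set n₁ := (n ^ 2 ^ kk) ^ Nat.gcdA (2 ^ kk) M with hn₁
  set n₂ := (n ^ M) ^ Nat.gcdB (2 ^ kk) M with hn₂
  have hn12 : n = n₁ * n₂ := by
    rw [hn₁, hn₂, ← zpow_natCast n, ← zpow_natCast n, ← zpow_mul, ← zpow_mul, ← zpow_add, ← hb]
    simp
  have hn₁odd : Odd (orderOf n₁) := by
    refine hM.of_dvd_nat (orderOf_dvd_of_pow_eq_one ?_)
    rw [hn₁, ← zpow_natCast, ← zpow_mul, mul_comm, zpow_mul, zpow_natCast, ← pow_mul, ← hkM, pow_orderOf_eq_one, one_zpow]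
  have hn₂H : n₂ ∈ H := by
    refine hSH (zpow_mem ?_ _)
    have hd : orderOf (n ^ M) ∣ 2 ^ kk :=
      orderOf_dvd_of_pow_eq_one (by rw [← pow_mul, mul_comm, ← hkM, pow_orderOf_eq_one])
    obtain ⟨j, -, hj⟩ := (Nat.dvd_prime_pow Nat.prime_two).1 hd
    have hp : IsPGroup 2 (Subgroup.zpowers (n ^ M)) := IsPGroup.of_card (by rw [Nat.card_zpowers, hj])
    have hsup := S.isPGroup'.to_sup_of_normal_left' hp (Subgroup.zpowers_le.2 (Subgroup.pow_mem _ hn _))
    exact (le_of_eq (S.is_maximal' hsup le_sup_left)) (Subgroup.mem_sup_right (Subgroup.mem_zpowers _))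
  obtain ⟨x, hx, hxe⟩ := key n₁ (zpow_mem (Subgroup.pow_mem _ hn _) _) hn₁odd
  have hHn : H.map (MulAut.conj n).toMonoidHom = H.map (MulAut.conj n₁).toMonoidHom := by
    ext y
    constructor
    · rintro ⟨z, hz, rfl⟩
      exact ⟨n₂ * z * n₂⁻¹, H.mul_mem (H.mul_mem hn₂H hz) (H.inv_mem hn₂H), by rw [hn12]; simp [mul_assoc]⟩
    · rintro ⟨z, hz, rfl⟩
      exact ⟨n₂⁻¹ * z * n₂, H.mul_mem (H.mul_mem (H.inv_mem hn₂H) hz) hn₂H, by rw [hn12]; simp [mul_assoc]⟩
  have hcomp : ∀ u v : PSL(2, F), (H.map (MulAut.conj u).toMonoidHom).map (MulAut.conj v).toMonoidHom =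
      H.map (MulAut.conj (v * u)).toMonoidHom := fun u v => by
    rw [Subgroup.map_map]
    congr 1
    exact MonoidHom.ext fun z => by simp [mul_assoc]
  refine ⟨(k : PSL(2, F)) * x, K.mul_mem k.2 ?_, ?_⟩
  · have hsub : H ⊔ H.map (MulAut.conj n₁).toMonoidHom ≤ K := by
      refine sup_le le_sup_left ?_
      rw [← hHn]
      rintro y ⟨z, hz, rfl⟩
      have hgz : g * z * g⁻¹ ∈ K := Subgroup.mem_sup_right ⟨z, hz, rfl⟩
      have : (k : PSL(2, F))⁻¹ * (g * z * g⁻¹) * k ∈ K := K.mul_mem (K.mul_mem (K.inv_mem k.2) hgz) k.2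
      simpa [hndef, mul_assoc] using this
    exact hsub hx
  · rw [← hcomp, ← hxe, ← hHn, hcomp, hndef, mul_inv_cancel_left]

/-- Odd index subgroups of `PSL(2, q)`, `q` odd. -/
theorem isPronormal_psl_two (h2 : (2 : F) ≠ 0) (H : Subgroup PSL(2, F)) (hH : Odd H.index) :
    Cfsg.IsPronormal H := by
  obtain ⟨c, hc⟩ := odd_card_iff.2 h2
  rcases (show Fintype.card F % 8 = 1 ∨ Fintype.card F % 8 = 7 ∨ Fintype.card F % 8 = 3 ∨ Fintype.card F % 8 = 5 by omega)
    with e | e | e | e
  · refine isPronormal_psl_two_big h2 ?_ H hH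
    obtain ⟨j, hj⟩ : ∃ j, Fintype.card F = 8 * j + 1 := ⟨Fintype.card F / 8, by omega⟩
    exact ⟨4 * j * j + j, by rw [hj, show (8 * j + 1) ^ 2 = 16 * (4 * j * j + j) + 1 by ring]; omega⟩
  · refine isPronormal_psl_two_big h2 ?_ H hH
    obtain ⟨j, hj⟩ : ∃ j, Fintype.card F = 8 * j + 7 := ⟨Fintype.card F / 8, by omega⟩
    exact ⟨4 * j * j + 7 * j + 3, by rw [hj, show (8 * j + 7) ^ 2 = 16 * (4 * j * j + 7 * j + 3) + 1 by ring]; omega⟩
  · exact isPronormal_psl_two_small (Or.inl e) H hH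
  · exact isPronormal_psl_two_small (Or.inr e) H hH

end Cfsg.Agent.Pronormal
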