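import Mathlib
import Cfsg.Agent.Lib.Pronormal.Monomial
import Cfsg.Agent.Lib.Pronormal.Bases

/-!
In characteristic two the unitary group of an antidiagonal form is a `Frame`: the Bruhat normal form is
unique, so it is fixed by the defining involution.
-/

set_option autoImplicit false

open Matrix

namespace Cfsg.Agent.Pronormal

variable {F : Type*} [Field F] {n : ℕ}

/-- Reversal of the coordinates. -/
abbrev rv : GL (Fin n) F ≃* GL (Fin n) F := glr Fin.revPerm

theorem rv_apply (g : GL (Fin n) F) (i j : Fin n) :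
    ((rv g : GL (Fin n) F) : Matrix (Fin n) (Fin n) F) i j = (g : Matrix (Fin n) (Fin n) F) i.rev j.rev := by
  simp [rv, coe_glr]

/-- The lower unitriangular group. -/
def lowU (n : ℕ) (F : Type*) [Field F] : Subgroup (GL (Fin n) F) :=
  (GL.unitriangular n F).comap rv.toMonoidHom

theorem mem_lowU {g : GL (Fin n) F} : g ∈ lowU n F ↔
    (∀ i j, i < j → (g : Matrix (Fin n) (Fin n) F) i j = 0) ∧ ∀ i, (g : Matrix (Fin n) (Fin n) F) i i = 1 := by
  rw [lowU, Subgroup.mem_comap, MulEquiv.coe_toMonoidHom, GL.mem_unitriangular]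
  constructor
  · rintro ⟨h1, h2⟩
    refine ⟨fun i j h => ?_, fun i => ?_⟩
    · simpa [rv_apply] using h1 i.rev j.rev (Fin.rev_lt_rev.2 h)
    · simpa [rv_apply] using h2 i.rev
  · rintro ⟨h1, h2⟩
    exact ⟨fun i j h => by rw [rv_apply]; exact h1 _ _ (Fin.rev_lt_rev.2 h), fun i => by rw [rv_apply]; exact h2 _⟩

theorem eq_one_of_mem_lowU {g : GL (Fin n) F} (h : g ∈ GL.unitriangular n F) (h' : g ∈ lowU n F) : g = 1 := by
  refine Units.ext (Matrix.ext fun i j => ?_)
  rcases lt_trichotomy i j with hij | rfl | hij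
  · rw [(mem_lowU.1 h').1 i j hij, Units.val_one, Matrix.one_apply_ne hij.ne]
  · rw [(GL.mem_unitriangular.1 h).2 i, Units.val_one, Matrix.one_apply_eq]
  · rw [(GL.mem_unitriangular.1 h).1 i j hij, Units.val_one, Matrix.one_apply_ne hij.ne']

theorem IsMono.conj_apply {m : GL (Fin n) F} {π : Equiv.Perm (Fin n)} (hm : IsMono m π) (u : GL (Fin n) F)
    (k j : Fin n) :
    ((m * u * m⁻¹ : GL (Fin n) F) : Matrix (Fin n) (Fin n) F) (π k) (π j) * (m : Matrix (Fin n) (Fin n) F) (π j) j =
      (m : Matrix (Fin n) (Fin n) F) (π k) k * (u : Matrix (Fin n) (Fin n) F) k j := by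
  have h1 : ((m * u * m⁻¹ * m : GL (Fin n) F) : Matrix (Fin n) (Fin n) F) (π k) j =
      ((m * u * m⁻¹ : GL (Fin n) F) : Matrix (Fin n) (Fin n) F) (π k) (π j) * (m : Matrix (Fin n) (Fin n) F) (π j) j := by
    rw [GeneralLinearGroup.coe_mul, Matrix.mul_apply, Fintype.sum_eq_single (π j)]
    intro l hl
    rw [hm l j hl, mul_zero]
  rw [← h1, inv_mul_cancel_right, GeneralLinearGroup.coe_mul, Matrix.mul_apply, Fintype.sum_eq_single k]
  intro l hl
  rw [hm (π k) l (fun e => hl (π.injective e).symm), zero_mul]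

/-- Elements of `U` that the monomial element sends into `U`. -/
def upPart (m : GL (Fin n) F) : Subgroup (GL (Fin n) F) :=
  GL.unitriangular n F ⊓ (GL.unitriangular n F).comap (MulAut.conj m).toMonoidHom

/-- Elements of `U` that the monomial element sends into the lower group. -/
def downPart (m : GL (Fin n) F) : Subgroup (GL (Fin n) F) :=
  GL.unitriangular n F ⊓ (lowU n F).comap (MulAut.conj m).toMonoidHom

theorem mem_upPart {m u : GL (Fin n) F} :
    u ∈ upPart m ↔ u ∈ GL.unitriangular n F ∧ m * u * m⁻¹ ∈ GL.unitriangular n F := by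
  simp [upPart]

theorem mem_downPart {m u : GL (Fin n) F} :
    u ∈ downPart m ↔ u ∈ GL.unitriangular n F ∧ m * u * m⁻¹ ∈ lowU n F := by
  simp [downPart]

/-- A unitriangular element with prescribed entries above the diagonal. -/
noncomputable def mkUni (f : Fin n → Fin n → F) : GL (Fin n) F :=
  GeneralLinearGroup.mkOfDetNeZero (Matrix.of fun i j => if i < j then f i j else if i = j then 1 else 0) (by
    rw [Matrix.det_of_isUpperTriangular (fun i j (h : j < i) => by simp [h.not_gt, h.ne'])]
    simp)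

theorem mkUni_apply (f : Fin n → Fin n → F) (i j : Fin n) :
    ((mkUni f : GL (Fin n) F) : Matrix (Fin n) (Fin n) F) i j =
      if i < j then f i j else if i = j then 1 else 0 := rfl

theorem mkUni_mem (f : Fin n → Fin n → F) : mkUni f ∈ GL.unitriangular n F :=
  GL.mem_unitriangular.2 ⟨fun i j h => by rw [mkUni_apply, if_neg h.not_gt, if_neg h.ne'],
    fun i => by rw [mkUni_apply, if_neg (lt_irrefl i), if_pos rfl]⟩

theorem eq_mkUni {u : GL (Fin n) F} (hu : u ∈ GL.unitriangular n F) {f : Fin n → Fin n → F}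
    (h : ∀ i j, i < j → (u : Matrix (Fin n) (Fin n) F) i j = f i j) : u = mkUni f := by
  refine Units.ext (Matrix.ext fun i j => ?_)
  rw [mkUni_apply]
  rcases lt_trichotomy i j with hij | rfl | hij
  · rw [if_pos hij, h i j hij]
  · rw [if_neg (lt_irrefl i), if_pos rfl, (GL.mem_unitriangular.1 hu).2]
  · rw [if_neg hij.not_gt, if_neg hij.ne', (GL.mem_unitriangular.1 hu).1 i j hij]

theorem upPart_iff {m : GL (Fin n) F} {π : Equiv.Perm (Fin n)} (hm : IsMono m π) {u : GL (Fin n) F}
    (hu : u ∈ GL.unitriangular n F) :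
    u ∈ upPart m ↔ ∀ k j, k < j → π j < π k → (u : Matrix (Fin n) (Fin n) F) k j = 0 := by
  rw [mem_upPart, GL.mem_unitriangular (g := m * u * m⁻¹)]
  constructor
  · rintro ⟨-, h1, -⟩ k j - hπ
    have := hm.conj_apply u k j
    rw [h1 _ _ hπ, zero_mul] at this
    exact (mul_eq_zero.1 this.symm).resolve_left (hm.apply_ne_zero k)
  · intro h
    refine ⟨hu, fun a b hab => ?_, fun a => ?_⟩
    · obtain ⟨k, rfl⟩ := π.surjective a
      obtain ⟨j, rfl⟩ := π.surjective b
      have := hm.conj_apply u k j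
      rcases lt_trichotomy k j with hkj | rfl | hkj
      · rw [h k j hkj hab, mul_zero] at this
        exact (mul_eq_zero.1 this).resolve_right (hm.apply_ne_zero j)
      · exact absurd hab (lt_irrefl _)
      · rw [(GL.mem_unitriangular.1 hu).1 k j hkj, mul_zero] at this
        exact (mul_eq_zero.1 this).resolve_right (hm.apply_ne_zero j)
    · obtain ⟨k, rfl⟩ := π.surjective a
      have := hm.conj_apply u k k
      rw [(GL.mem_unitriangular.1 hu).2, mul_one] at this
      exact mul_right_cancel₀ (hm.apply_ne_zero k) (by rw [this, one_mul])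

theorem downPart_iff {m : GL (Fin n) F} {π : Equiv.Perm (Fin n)} (hm : IsMono m π) {u : GL (Fin n) F}
    (hu : u ∈ GL.unitriangular n F) :
    u ∈ downPart m ↔ ∀ k j, k < j → π k < π j → (u : Matrix (Fin n) (Fin n) F) k j = 0 := by
  rw [mem_downPart, mem_lowU]
  constructor
  · rintro ⟨-, h1, -⟩ k j - hπ
    have := hm.conj_apply u k j
    rw [h1 _ _ hπ, zero_mul] at this
    exact (mul_eq_zero.1 this.symm).resolve_left (hm.apply_ne_zero k)
  · intro h
    refine ⟨hu, fun a b hab => ?_, fun a => ?_⟩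
    · obtain ⟨k, rfl⟩ := π.surjective a
      obtain ⟨j, rfl⟩ := π.surjective b
      have := hm.conj_apply u k j
      rcases lt_trichotomy k j with hkj | rfl | hkj
      · rw [h k j hkj hab, mul_zero] at this
        exact (mul_eq_zero.1 this).resolve_right (hm.apply_ne_zero j)
      · exact absurd hab (lt_irrefl _)
      · rw [(GL.mem_unitriangular.1 hu).1 k j hkj, mul_zero] at this
        exact (mul_eq_zero.1 this).resolve_right (hm.apply_ne_zero j)
    · obtain ⟨k, rfl⟩ := π.surjective a
      have := hm.conj_apply u k k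
      rw [(GL.mem_unitriangular.1 hu).2, mul_one] at this
      exact mul_right_cancel₀ (hm.apply_ne_zero k) (by rw [this, one_mul])

variable [Finite F]

/-- `U = upPart · downPart`. -/
theorem exists_up_mul_down {m : GL (Fin n) F} {π : Equiv.Perm (Fin n)} (hm : IsMono m π) {u : GL (Fin n) F}
    (hu : u ∈ GL.unitriangular n F) : ∃ a ∈ upPart m, ∃ b ∈ downPart m, u = a * b := by
  classical
  let μ : upPart m × downPart m → GL.unitriangular n F := fun p =>
    ⟨p.1.1 * p.2.1, mul_mem (mem_upPart.1 p.1.2).1 (mem_downPart.1 p.2.2).1⟩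
  let P : GL.unitriangular n F → upPart m × downPart m := fun v =>
    (⟨mkUni fun k j => if π j < π k then 0 else (v : GL (Fin n) F).1 k j,
      (upPart_iff hm (mkUni_mem _)).2 fun k j hkj hπ => by rw [mkUni_apply, if_pos hkj, if_pos hπ]⟩,
     ⟨mkUni fun k j => if π k < π j then 0 else (v : GL (Fin n) F).1 k j,
      (downPart_iff hm (mkUni_mem _)).2 fun k j hkj hπ => by rw [mkUni_apply, if_pos hkj, if_pos hπ]⟩)
  have hPinj : Function.Injective P := by
    intro v w h
    refine Subtype.ext ((eq_mkUni v.2 (f := fun k j => (w : GL (Fin n) F).1 k j) fun k j hkj => ?_).trans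
      (eq_mkUni w.2 fun k j _ => rfl).symm)
    have h1 := congrArg (fun p => (p.1 : GL (Fin n) F).1 k j) h
    have h2 := congrArg (fun p => (p.2 : GL (Fin n) F).1 k j) h
    simp only [P, mkUni_apply, if_pos hkj] at h1 h2
    rcases lt_trichotomy (π j) (π k) with hπ | hπ | hπ
    · rw [if_neg hπ.not_gt, if_neg hπ.not_gt] at h2; exact h2
    · exact absurd (π.injective hπ) hkj.ne'
    · rw [if_neg hπ.not_gt, if_neg hπ.not_gt] at h1; exact h1
  have hμinj : Function.Injective μ := by
    rintro ⟨a, b⟩ ⟨a', b'⟩ h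
    have h' : (a : GL (Fin n) F) * b = a' * b' := congrArg Subtype.val h
    have e : (a' : GL (Fin n) F)⁻¹ * a = b' * (b : GL (Fin n) F)⁻¹ := by
      rw [eq_mul_inv_iff_mul_eq, mul_assoc, h', inv_mul_cancel_left]
    have hA : (a' : GL (Fin n) F)⁻¹ * a ∈ upPart m := mul_mem (inv_mem a'.2) a.2
    have hB : (a' : GL (Fin n) F)⁻¹ * a ∈ downPart m := e ▸ mul_mem b'.2 (inv_mem b.2)
    have h1 : (a' : GL (Fin n) F)⁻¹ * a = 1 := by
      have := eq_one_of_mem_lowU (mem_upPart.1 hA).2 (mem_downPart.1 hB).2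
      rwa [mul_inv_eq_one, mul_eq_left] at this
    have ha : (a' : GL (Fin n) F) = a := inv_mul_eq_one.1 h1
    have hb : (b : GL (Fin n) F) = b' := by rw [ha] at h'; exact mul_left_cancel h'
    exact Prod.ext (Subtype.ext ha.symm) (Subtype.ext hb)
  haveI := Fintype.ofFinite (GL.unitriangular n F)
  haveI := Fintype.ofFinite (upPart m × downPart m)
  have hbij : Function.Bijective μ := (Fintype.bijective_iff_injective_and_card μ).2
    ⟨hμinj, le_antisymm (Fintype.card_le_of_injective μ hμinj) (Fintype.card_le_of_injective P hPinj)⟩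
  obtain ⟨⟨a, b⟩, hab⟩ := hbij.2 ⟨u, hu⟩
  exact ⟨a, a.2, b, b.2, (congrArg Subtype.val hab).symm⟩

/-- The Bruhat normal form. -/
theorem exists_normal_form (g : GL (Fin n) F) : ∃ (u m b : GL (Fin n) F) (π : Equiv.Perm (Fin n)),
    u ∈ GL.unitriangular n F ∧ IsMono m π ∧ b ∈ downPart m ∧ g = u * m * b := by
  obtain ⟨u, m, u', π, hu, hm, hu', rfl⟩ := exists_bruhat_mono g
  obtain ⟨a, ha, b, hb, rfl⟩ := exists_up_mul_down hm hu'
  exact ⟨u * (m * a * m⁻¹), m, b, π, mul_mem hu (mem_upPart.1 ha).2, hm, hb, by group⟩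

omit [Finite F] in
/-- The Bruhat normal form is unique. -/
theorem normal_form_unique {u m b u₁ m₁ b₁ : GL (Fin n) F} {π π₁ : Equiv.Perm (Fin n)}
    (hu : u ∈ GL.unitriangular n F) (hu₁ : u₁ ∈ GL.unitriangular n F) (hm : IsMono m π) (hm₁ : IsMono m₁ π₁)
    (hb : b ∈ downPart m) (hb₁ : b₁ ∈ downPart m₁) (h : u * m * b = u₁ * m₁ * b₁) :
    u = u₁ ∧ m = m₁ ∧ b = b₁ ∧ π = π₁ := by
  set v := u₁⁻¹ * u with hv
  set w := b₁ * b⁻¹ with hw
  have hvU : v ∈ GL.unitriangular n F := mul_mem (inv_mem hu₁) hu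
  have hwU : w ∈ GL.unitriangular n F := mul_mem (mem_downPart.1 hb₁).1 (inv_mem (mem_downPart.1 hb).1)
  have e : v * m = m₁ * w := by
    rw [hv, hw, ← mul_assoc, eq_mul_inv_iff_mul_eq, mul_assoc, mul_assoc, ← mul_assoc u, h]
    group
  have hL : ∀ i j, ((v * m : GL (Fin n) F) : Matrix (Fin n) (Fin n) F) i j =
      (v : Matrix (Fin n) (Fin n) F) i (π j) * (m : Matrix (Fin n) (Fin n) F) (π j) j := by
    intro i j
    rw [GeneralLinearGroup.coe_mul, Matrix.mul_apply, Fintype.sum_eq_single (π j)]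
    intro l hl
    rw [hm l j hl, mul_zero]
  have hR : ∀ k j, ((m₁ * w : GL (Fin n) F) : Matrix (Fin n) (Fin n) F) (π₁ k) j =
      (m₁ : Matrix (Fin n) (Fin n) F) (π₁ k) k * (w : Matrix (Fin n) (Fin n) F) k j := by
    intro k j
    rw [GeneralLinearGroup.coe_mul, Matrix.mul_apply, Fintype.sum_eq_single k]
    intro l hl
    rw [hm₁ (π₁ k) l (fun e => hl (π₁.injective e).symm), zero_mul]
  have hd : ∀ j, (v : Matrix (Fin n) (Fin n) F) (π₁ j) (π j) * (m : Matrix (Fin n) (Fin n) F) (π j) j =
      (m₁ : Matrix (Fin n) (Fin n) F) (π₁ j) j := fun j => by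
    rw [← hL, e, hR, (GL.mem_unitriangular.1 hwU).2, mul_one]
  have hle : ∀ j, π₁ j ≤ π j := fun j => by
    by_contra hlt
    have := hd j
    rw [(GL.mem_unitriangular.1 hvU).1 _ _ (not_le.1 hlt), zero_mul] at this
    exact hm₁.apply_ne_zero j this.symm
  have hsum : ∑ j : Fin n, ((π₁ j : Fin n) : ℕ) = ∑ j : Fin n, ((π j : Fin n) : ℕ) := by
    rw [Equiv.sum_comp π₁ (fun k : Fin n => (k : ℕ)), Equiv.sum_comp π (fun k : Fin n => (k : ℕ))]
  obtain rfl : π₁ = π := Equiv.ext fun j => Fin.ext
    ((Finset.sum_eq_sum_iff_of_le (fun k _ => Fin.le_def.1 (hle k))).1 hsum j (Finset.mem_univ j))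
  obtain rfl : m = m₁ := Units.ext (Matrix.ext fun i j => by
    by_cases hij : i = π₁ j
    · have := hd j
      rw [(GL.mem_unitriangular.1 hvU).2, one_mul] at this
      rw [hij, this]
    · rw [hm i j hij, hm₁ i j hij])
  have h1 : v = 1 := by
    refine eq_one_of_mem_lowU hvU ?_
    have : v = m * w * m⁻¹ := by rw [← e, mul_inv_cancel_right]
    rw [this]
    exact (mem_downPart.1 (mul_mem hb₁ (inv_mem hb))).2
  have hw1 : w = 1 := by
    rw [h1, one_mul] at e
    exact (mul_eq_left.1 e.symm)
  exact ⟨(inv_mul_eq_one.1 h1).symm, rfl, (mul_inv_eq_one.1 hw1).symm, rfl⟩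

variable (σ : F →+* F)

/-- The involution defining the unitary group of the antidiagonal form. -/
noncomputable def theta : GL (Fin n) F →* GL (Fin n) F where
  toFun g :=
    { val := ((((g⁻¹ : GL (Fin n) F)) : Matrix (Fin n) (Fin n) F).map σ)ᵀ.submatrix Fin.revPerm Fin.revPerm
      inv := (((g : GL (Fin n) F) : Matrix (Fin n) (Fin n) F).map σ)ᵀ.submatrix Fin.revPerm Fin.revPerm
      val_inv := by
        rw [Matrix.submatrix_mul_equiv, ← Matrix.transpose_mul, ← RingHom.mapMatrix_apply, ← RingHom.mapMatrix_apply,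
          ← map_mul, ← GeneralLinearGroup.coe_mul, mul_inv_cancel, Units.val_one, map_one, Matrix.transpose_one,
          Matrix.submatrix_one_equiv]
      inv_val := by
        rw [Matrix.submatrix_mul_equiv, ← Matrix.transpose_mul, ← RingHom.mapMatrix_apply, ← RingHom.mapMatrix_apply,
          ← map_mul, ← GeneralLinearGroup.coe_mul, inv_mul_cancel, Units.val_one, map_one, Matrix.transpose_one,
          Matrix.submatrix_one_equiv] }
  map_one' := Units.ext (by simp)
  map_mul' g h := Units.ext (by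
    show (((((g * h)⁻¹ : GL (Fin n) F)) : Matrix (Fin n) (Fin n) F).map σ)ᵀ.submatrix Fin.revPerm Fin.revPerm = _
    rw [_root_.mul_inv_rev, GeneralLinearGroup.coe_mul, ← RingHom.mapMatrix_apply, map_mul, Matrix.transpose_mul,
      ← Matrix.submatrix_mul_equiv _ _ _ Fin.revPerm]
    rfl)

omit [Finite F] in
theorem theta_apply (g : GL (Fin n) F) (i j : Fin n) :
    ((theta σ g : GL (Fin n) F) : Matrix (Fin n) (Fin n) F) i j =
      σ (((g⁻¹ : GL (Fin n) F) : Matrix (Fin n) (Fin n) F) j.rev i.rev) := rfl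

omit [Finite F] in
theorem theta_mem_unitriangular {g : GL (Fin n) F} (hg : g ∈ GL.unitriangular n F) :
    theta σ g ∈ GL.unitriangular n F := by
  have h := GL.mem_unitriangular.1 ((GL.unitriangular n F).inv_mem hg)
  exact GL.mem_unitriangular.2 ⟨fun i j hij => by rw [theta_apply, h.1 _ _ (Fin.rev_lt_rev.2 hij), map_zero],
    fun i => by rw [theta_apply, h.2, map_one]⟩

omit [Finite F] in
theorem theta_mem_lowU {g : GL (Fin n) F} (hg : g ∈ lowU n F) : theta σ g ∈ lowU n F := by
  have h := mem_lowU.1 ((lowU n F).inv_mem hg)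
  exact mem_lowU.2 ⟨fun i j hij => by rw [theta_apply, h.1 _ _ (Fin.rev_lt_rev.2 hij), map_zero],
    fun i => by rw [theta_apply, h.2, map_one]⟩

omit [Finite F] in
theorem IsMono.theta {m : GL (Fin n) F} {π : Equiv.Perm (Fin n)} (hm : IsMono m π) :
    IsMono (Pronormal.theta σ m) (Fin.revPerm * π * Fin.revPerm) := by
  intro i j hij
  rw [theta_apply, hm.inv _ _ ?_, map_zero]
  intro e
  refine hij ?_
  have : π j.rev = i.rev := by rw [e]; simp
  simp [this]

/-- The unitary group of the antidiagonal form inside `SL`. -/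
noncomputable def thetaFixed (n : ℕ) : Subgroup (GL (Fin n) F) :=
  (theta σ).eqLocus (MonoidHom.id _) ⊓ (GeneralLinearGroup.det : GL (Fin n) F →* Fˣ).ker

omit [Finite F] in
theorem mem_thetaFixed {g : GL (Fin n) F} :
    g ∈ thetaFixed σ n ↔ theta σ g = g ∧ GeneralLinearGroup.det g = 1 := Iff.rfl

omit [Finite F] in
theorem theta_tv [CharP F 2] {i j : Fin n} (h : i ≠ j) (h' : j.rev ≠ i.rev) :
    theta σ (tv h (1 : F)) = tv h' 1 := by
  have hinv : (tv h (1 : F))⁻¹ = tv h 1 := by
    refine inv_eq_of_mul_eq_one_right (Units.ext ?_)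
    rw [GeneralLinearGroup.coe_mul, coe_tv, Units.val_one]
    simp [mul_add, add_mul, h.symm, add_assoc]
    rw [← Matrix.single_add, CharTwo.add_self_eq_zero, Matrix.single_zero]
  refine Units.ext (Matrix.ext fun a b => ?_)
  rw [theta_apply, hinv, coe_tv, coe_tv, Matrix.add_apply, Matrix.add_apply, map_add]
  congr 1
  · by_cases hab : a = b
    · subst hab; simp
    · rw [Matrix.one_apply_ne hab, Matrix.one_apply_ne (fun e => hab (Fin.rev_inj.1 e).symm), map_zero]
  · by_cases hab : b.rev = i ∧ a.rev = j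
    · obtain ⟨rfl, rfl⟩ := hab
      simp
    · rw [Matrix.single_apply_of_ne (h := fun e => hab ⟨e.1.symm, e.2.symm⟩), map_zero,
        Matrix.single_apply_of_ne]
      rintro ⟨rfl, rfl⟩
      exact hab ⟨by simp, by simp⟩

omit [Finite F] in
theorem tv_commute {i j k l : Fin n} (h : i ≠ j) (h' : k ≠ l) (h1 : j ≠ k) (h2 : l ≠ i) (s t : F) :
    tv h s * tv h' t = tv h' t * tv h s := by
  refine Units.ext ?_
  rw [GeneralLinearGroup.coe_mul, GeneralLinearGroup.coe_mul, coe_tv, coe_tv]
  simp [mul_add, add_mul, h1, h2]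
  abel

/-- The unitary group is a frame. -/
theorem frame_thetaFixed [CharP F 2] {r : ℕ} (hn : n = 2 * r) : Frame (thetaFixed σ n) := by
  have hrev : ∀ i : Fin n, i ≠ i.rev := fun i e => by
    have := congrArg Fin.val e
    rw [Fin.val_rev] at this
    omega
  have hneg : (-1 : F) = 1 := CharTwo.neg_eq 1
  refine ⟨?_, ?_⟩
  · intro g hg
    obtain ⟨u, m, b, π, hu, hm, hb, rfl⟩ := exists_normal_form g
    have hbU := (mem_downPart.1 hb).1
    have hdb : theta σ b ∈ downPart (theta σ m) := by
      refine mem_downPart.2 ⟨theta_mem_unitriangular σ hbU, ?_⟩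
      rw [← map_inv, ← map_mul, ← map_mul]
      exact theta_mem_lowU σ (mem_downPart.1 hb).2
    obtain ⟨e1, e2, e3, -⟩ := normal_form_unique (theta_mem_unitriangular σ hu) hu (hm.theta σ) hm hdb hb
      (by rw [← map_mul, ← map_mul]; exact hg.1)
    have hud : GeneralLinearGroup.det u = 1 := GL.det_unitriangular hu
    have hbd : GeneralLinearGroup.det b = 1 := GL.det_unitriangular hbU
    refine ⟨u, m, b, π, ⟨(mem_thetaFixed σ).2 ⟨e1, hud⟩, hu⟩, (mem_thetaFixed σ).2 ⟨e2, ?_⟩, hm, ⟨(mem_thetaFixed σ).2 ⟨e3, hbd⟩, hbU⟩, rfl⟩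
    have := ((mem_thetaFixed σ).1 hg).2
    rw [map_mul, map_mul, hud, hbd, one_mul, mul_one] at this
    exact this
  · intro m π hmG hm h1
    have hcomm : ∀ k, π k.rev = (π k).rev := by
      intro k
      have h := hm.theta σ
      rw [hmG.1] at h
      by_contra hne
      refine h.apply_ne_zero k.rev (hm _ _ fun e => hne ?_)
      simp at e
      exact e.symm
    obtain ⟨i, j, hij, hlt⟩ := exists_descent h1
    have hij' : i < j := Fin.lt_def.2 (by omega)
    have hmem : ∀ x : GL (Fin n) F, theta σ x = x → GeneralLinearGroup.det x = 1 →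
        ∀ y, m * y * m⁻¹ = x → y ∈ thetaFixed σ n := by
      intro x hx hxd y hy
      have e : y = m⁻¹ * x * m := by rw [← hy]; group
      refine ⟨?_, ?_⟩
      · show theta σ y = y
        rw [e, map_mul, map_mul, map_inv, hmG.1, hx]
        rfl
      · show GeneralLinearGroup.det y = 1
        rw [e, map_mul, map_mul, map_inv, hmG.2, hxd, inv_one, one_mul, one_mul]
    by_cases hmid : j = i.rev
    · -- the middle root
      have hab : (π i).rev = π j := by rw [← hcomm, ← hmid]
      have hba : (π j).rev = π i := by rw [← hab, Fin.rev_rev]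
      obtain ⟨t, ht⟩ := hm.exists_conj_tv hij'.ne hlt.ne' (1 : F)
      have hfa : theta σ (tv hlt.ne (1 : F)) = tv hlt.ne 1 := by
        rw [theta_tv σ hlt.ne (by rw [hba, hab]; exact hlt.ne)]
        simp only [hba, hab]
      have hfb : theta σ (tv hlt.ne' (1 : F)) = tv hlt.ne' 1 := by
        rw [theta_tv σ hlt.ne' (by rw [hba, hab]; exact hlt.ne')]
        simp only [hba, hab]
      refine ⟨tv hlt.ne 1, tv hij'.ne t, Equiv.swap (π j) (π i), ⟨⟨hfa, det_tv _ _⟩, tv_mem_unitriangular hlt _⟩,
        ⟨hmem _ hfb (det_tv _ _) _ ht, tv_mem_unitriangular hij' _⟩, ?_, ?_, ?_⟩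
      · rw [ht]; exact tv_notMem_unitriangular hlt one_ne_zero
      · rw [ht]
        have := isMono_tv_swap (F := F) hlt.ne
        rwa [hneg] at this
      · rw [show Equiv.swap (π j) (π i) * π = π * Equiv.swap i j by
          rw [Equiv.swap_comm (π j), Equiv.swap_apply_apply]; group]
        exact weight_mul_swap π hij' hlt
    · -- a pair of roots
      have hji : j.rev < i.rev := Fin.rev_lt_rev.2 hij'
      set a := π j with ha
      set b := π i with hb
      have hab' : b.rev < a.rev := Fin.rev_lt_rev.2 hlt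
      have hne : a ≠ b.rev := fun e => hmid (π.injective (by rw [← ha, e, hb, ← hcomm]))
      have hne' : b ≠ a.rev := fun e => hne (by rw [e, Fin.rev_rev])
      obtain ⟨t, ht⟩ := hm.exists_conj_tv hij'.ne hlt.ne' (1 : F)
      have hπ' : π i.rev ≠ π j.rev := fun e => hji.ne' (π.injective e)
      have hπ'' : π j.rev ≠ π i.rev := fun e => hπ' e.symm
      obtain ⟨t', ht'⟩ := hm.exists_conj_tv hji.ne hπ'' (1 : F)
      have hia : π i.rev = b.rev := by rw [hb, hcomm]
      have hja : π j.rev = a.rev := by rw [ha, hcomm]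
      have ht'' : m * tv hji.ne t' * m⁻¹ = tv hab'.ne' 1 := by
        rw [ht']
        simp only [hia, hja]
      set A : GL (Fin n) F := tv hlt.ne 1 with hA
      set A' : GL (Fin n) F := tv hab'.ne 1 with hA'
      set B : GL (Fin n) F := tv hlt.ne' 1 with hB
      set B' : GL (Fin n) F := tv hab'.ne' 1 with hB'
      have hAA : A * A' = A' * A := tv_commute hlt.ne hab'.ne (hrev b) (hrev a).symm _ _
      have hBA : B * A' = A' * B := tv_commute hlt.ne' hab'.ne hne (fun e => hne' e.symm) _ _
      have hAB : A * B' = B' * A := tv_commute hlt.ne hab'.ne' hne' (fun e => hne e.symm) _ _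
      have hBB : B * B' = B' * B := tv_commute hlt.ne' hab'.ne' (hrev a) (hrev b).symm _ _
      have hfA : theta σ A = A' := theta_tv σ _ _
      have hfA' : theta σ A' = A := by
        rw [hA', theta_tv σ hab'.ne (by simpa using hlt.ne)]
        simp only [Fin.rev_rev, hA]
      have hfB : theta σ B = B' := theta_tv σ _ _
      have hfB' : theta σ B' = B := by
        rw [hB', theta_tv σ hab'.ne' (by simpa using hlt.ne')]
        simp only [Fin.rev_rev, hB]
      have hconj : m * (tv hij'.ne t * tv hji.ne t') * m⁻¹ = B * B' := by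
        rw [← ht, ← ht'']; group
      have hx'U : tv hij'.ne t * tv hji.ne t' ∈ GL.unitriangular n F :=
        mul_mem (tv_mem_unitriangular hij' _) (tv_mem_unitriangular hji _)
      refine ⟨A * A', tv hij'.ne t * tv hji.ne t', Equiv.swap a b * Equiv.swap b.rev a.rev,
        ⟨⟨?_, ?_⟩, mul_mem (tv_mem_unitriangular hlt _) (tv_mem_unitriangular hab' _)⟩,
        ⟨hmem _ ?_ ?_ _ hconj, hx'U⟩, ?_, ?_, ?_⟩
      · show theta σ (A * A') = A * A'
        rw [map_mul, hfA, hfA', hAA]
      · show GeneralLinearGroup.det (A * A') = 1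
        rw [map_mul, det_tv, det_tv, one_mul]
      · rw [map_mul, hfB, hfB', hBB]
      · rw [map_mul, det_tv, det_tv, one_mul]
      · rw [hconj]
        intro hU
        have h0 := (GL.mem_unitriangular.1 hU).1 b a hlt
        rw [hB, hB', GeneralLinearGroup.coe_mul, coe_tv, coe_tv] at h0
        simp [mul_add, add_mul, hlt.ne', hne, hne', hrev a, hrev b, Ne.symm hne, Ne.symm hne', Matrix.one_apply,
          Matrix.single_apply] at h0
      · rw [hconj]
        have e : A * A' * (B * B') * (A * A') = (A * B * A) * (A' * B' * A') := by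
          calc A * A' * (B * B') * (A * A') = A * (A' * B) * B' * A * A' := by group
            _ = A * (B * A') * B' * A * A' := by rw [hBA]
            _ = A * B * A' * (B' * A) * A' := by group
            _ = A * B * A' * (A * B') * A' := by rw [hAB]
            _ = A * B * (A' * A) * B' * A' := by group
            _ = A * B * (A * A') * B' * A' := by rw [hAA]
            _ = (A * B * A) * (A' * B' * A') := by group
        rw [e]
        have h1' := isMono_tv_swap (F := F) hlt.ne
        have h2' := isMono_tv_swap (F := F) hab'.ne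
        rw [hneg] at h1' h2'
        exact h1'.mul h2'
      · have hdisj : π * Equiv.swap i j * Equiv.swap j.rev i.rev = Equiv.swap a b * Equiv.swap b.rev a.rev * π := by
          rw [← hia, ← hja, ha, hb, Equiv.swap_comm (π j) (π i), Equiv.swap_comm j.rev i.rev,
            Equiv.swap_apply_apply, Equiv.swap_apply_apply]
          group
        rw [← hdisj]
        refine lt_trans (weight_mul_swap π hij' hlt) (weight_mul_swap _ hji ?_)
        have hi1 : i.rev ≠ i := (hrev i).symm
        have hi2 : i.rev ≠ j := fun e => hmid e.symm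
        have hj1 : j.rev ≠ j := (hrev j).symm
        have hj2 : j.rev ≠ i := fun e => hmid (by rw [← e, Fin.rev_rev])
        rw [Equiv.Perm.mul_apply, Equiv.Perm.mul_apply, Equiv.swap_apply_of_ne_of_ne hi1 hi2,
          Equiv.swap_apply_of_ne_of_ne hj2 hj1, hia, hja]
        exact hab'

end Cfsg.Agent.Pronormal
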