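import Mathlib
import Cfsg.Agent.Lib.Pronormal.UnitaryFrame
import Cfsg.Agent.Lib.Pronormal.BaseExist
import Cfsg.Agent.Lib.Forms.Herm
import Cfsg.Agent.Lib.Fusion.HermIso

/-!
Odd index subgroups of `PSU_(2^w)(q)`, `w ≥ 2`, are pronormal.
-/

set_option autoImplicit false

open Matrix

namespace Cfsg.Agent.Pronormal

variable {F : Type*} [Field F] [Fintype F] {q : ℕ}

theorem mem_GU_iff (hF : Fintype.card F = q ^ 2) {n : ℕ} (g : GL (Fin n) F) :
    g ∈ Cfsg.GU n F q ↔
      (g : Matrix (Fin n) (Fin n) F)ᵀ * (g : Matrix (Fin n) (Fin n) F).map (Forms.qEnd hF) = 1 := by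
  set σ := Forms.qEnd hF
  have key : ∀ u v : Fin n → F, Cfsg.hermForm n F q u v = u ⬝ᵥ (σ ∘ v) := by
    intro u v
    simp [Cfsg.hermForm, dotProduct, σ, Forms.qEnd_apply]
  have h2 : ∀ u v : Fin n → F, Cfsg.hermForm n F q (g.1 *ᵥ u) (g.1 *ᵥ v) =
      u ⬝ᵥ ((g.1ᵀ * g.1.map σ) *ᵥ (σ ∘ v)) := by
    intro u v
    have hc : σ ∘ (g.1 *ᵥ v) = g.1.map σ *ᵥ (σ ∘ v) := funext fun i => RingHom.map_mulVec σ g.1 v i
    rw [key, hc, Matrix.dotProduct_mulVec, ← Matrix.vecMul_transpose, Matrix.vecMul_vecMul,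
      ← Matrix.dotProduct_mulVec]
  have hmem : g ∈ Cfsg.GU n F q ↔
      ∀ u v, Cfsg.hermForm n F q (g.1 *ᵥ u) (g.1 *ᵥ v) = Cfsg.hermForm n F q u v := Iff.rfl
  rw [hmem]
  constructor
  · intro h
    ext i j
    have e := h (Pi.single i 1) (Pi.single j 1)
    rw [h2, key] at e
    have hs : σ ∘ (Pi.single j (1 : F) : Fin n → F) = Pi.single j 1 := by
      funext x
      by_cases hx : x = j
      · subst hx; simp
      · simp [hx]
    rw [hs] at e
    simpa [Matrix.one_apply, Pi.single_apply, eq_comm] using e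
  · intro h u v
    rw [h2, key, h, Matrix.one_mulVec]

theorem map_qEnd_fromBlocks (f : F →+* F) {ι : Type*} [DecidableEq ι] (A B C D : Matrix ι ι F) :
    (fromBlocks A B C D).map f = fromBlocks (A.map f) (B.map f) (C.map f) (D.map f) :=
  fromBlocks_map _ _ _ _ f

/-- The unitary groups. -/
def unitFamily (hF : Fintype.card F = q ^ 2) : Family F where
  G m := Cfsg.GU m F q
  blk_mem m a b ha hb := by
    rw [mem_GU_iff hF] at ha hb ⊢
    rw [coe_glr, Matrix.transpose_submatrix, ← Matrix.submatrix_map, Matrix.submatrix_mul_equiv, coe_blk,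
      map_qEnd_fromBlocks, fromBlocks_transpose, fromBlocks_multiply]
    simp [ha, hb]
  swp_mem m := by
    rw [mem_GU_iff hF, coe_glr, Matrix.transpose_submatrix, ← Matrix.submatrix_map, Matrix.submatrix_mul_equiv,
      show ((swp : GL (Fin m ⊕ Fin m) F) : Matrix (Fin m ⊕ Fin m) (Fin m ⊕ Fin m) F) = fromBlocks 0 1 1 0 from rfl,
      map_qEnd_fromBlocks, fromBlocks_transpose, fromBlocks_multiply]
    simp

theorem oneHom_mem_GU (hF : Fintype.card F = q ^ 2) {d : Fˣ} (hd : d ^ (q + 1) = 1) :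
    oneHom d ∈ Cfsg.GU 1 F q := by
  rw [mem_GU_iff hF, coe_oneHom]
  have h : (d : F) * (d : F) ^ q = 1 := by
    rw [← pow_succ', ← Units.val_pow_eq_pow_val, hd, Units.val_one]
  ext i j
  fin_cases i; fin_cases j
  simp [Matrix.mul_apply, Forms.qEnd_apply, h]

/-- Semidihedral data inside `GU_2(q)`, `q ≡ 1 (mod 4)`. -/
theorem exists_sdData_unitary (hF : Fintype.card F = q ^ 2) (h2 : (2 : F) ≠ 0) (hq : q % 4 = 1) :
    ∃ (u v : F) (h : u ^ 2 + v ^ 2 = -1), IsSDData u v h (v2 (q - 1) + 1) ∧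
      rot u v h ∈ Cfsg.GU 2 F q ∧ refl2 ∈ Cfsg.GU 2 F q := by
  have hq1 := Forms.one_lt_q hF
  set t := v2 (q - 1) with ht
  have ht2 : 2 ≤ t := by
    haveI : Fact (Nat.Prime 2) := ⟨Nat.prime_two⟩
    exact (padicValNat_dvd_iff_le (show q - 1 ≠ 0 by omega)).1 (show 2 ^ 2 ∣ q - 1 by omega)
  obtain ⟨c, hcodd, hc⟩ : ∃ c, ¬ 2 ∣ c ∧ q - 1 = 2 ^ t * c := by
    haveI : Fact (Nat.Prime 2) := ⟨Nat.prime_two⟩
    obtain ⟨c, hc⟩ : 2 ^ t ∣ q - 1 := pow_padicValNat_dvd
    refine ⟨c, fun hd => ?_, hc⟩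
    obtain ⟨d, rfl⟩ := hd
    exact pow_succ_padicValNat_not_dvd (p := 2) (show q - 1 ≠ 0 by omega)
      ⟨d, by rw [show padicValNat 2 (q - 1) = t from ht.symm, pow_succ, mul_assoc]; exact hc⟩
  obtain ⟨g, hg⟩ := IsCyclic.exists_ofOrder_eq_natCard (α := Fˣ)
  rw [Forms.units_card hF, hc] at hg
  obtain ⟨e, he⟩ : 2 ∣ q + 1 := ⟨(q + 1) / 2, by omega⟩
  set lam := g ^ (e * c) with hlam
  have hlo : orderOf lam = 2 ^ (t + 1) := by
    have hec : e * c ∣ orderOf g := ⟨2 ^ (t + 1), by rw [hg, he, pow_succ]; ring⟩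
    rw [hlam, orderOf_pow_of_dvd (Nat.mul_ne_zero (by omega) (by rintro rfl; simp at hcodd)) hec, hg, he,
      show 2 * e * (2 ^ t * c) = 2 ^ (t + 1) * (e * c) by rw [pow_succ]; ring,
      Nat.mul_div_cancel _ (Nat.pos_of_ne_zero (Nat.mul_ne_zero (by omega) (by rintro rfl; simp at hcodd)))]
  have hneg : ∀ x : Fˣ, ∀ k, orderOf x = 2 ^ (k + 1) → x ^ 2 ^ k = -1 := by
    intro x k hx
    refine neg_one_of_sq ?_ fun e1 => ?_
    · rw [← pow_add, ← two_mul, ← pow_succ', ← hx, pow_orderOf_eq_one]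
    · have := Nat.le_of_dvd (by positivity) (hx ▸ orderOf_dvd_of_pow_eq_one e1)
      rw [pow_succ] at this
      have : 0 < 2 ^ k := by positivity
      omega
  have hl : (lam : F) ^ 2 ^ t = -1 := by
    rw [← Units.val_pow_eq_pow_val, hneg lam t hlo, Units.val_neg, Units.val_one]
  set i : F := (lam : F) ^ 2 ^ (t - 1) with hi
  have hii : i * i = -1 := by
    rw [hi, ← pow_add, ← two_mul, ← pow_succ', show t - 1 + 1 = t by omega, hl]
  have hi0 : i ≠ 0 := fun e0 => by rw [e0, zero_mul] at hii; exact neg_ne_zero.2 one_ne_zero hii.symm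
  have hiq : i ^ q = i := by
    obtain ⟨j, hj⟩ : ∃ j, q = 4 * j + 1 := ⟨q / 4, by omega⟩
    rw [hj, pow_succ, pow_mul, show i ^ 4 = 1 by linear_combination (i * i - 1) * hii, one_pow, one_mul]
  have hlq1 : (lam : F) ^ (q - 1) = -1 := by
    rw [hc, pow_mul, hl, Odd.neg_one_pow (Nat.odd_iff.2 (Nat.two_dvd_ne_zero.1 hcodd))]
  have hlq : (lam : F) ^ q = -lam := by
    conv_lhs => rw [show q = q - 1 + 1 by omega, pow_succ, hlq1, neg_one_mul]
  set mu : F := -(lam : F)⁻¹ with hmu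
  have hqodd : Odd q := Nat.odd_iff.2 (by omega)
  have hmuq : mu ^ q = -mu := by
    rw [hmu, neg_pow, hqodd.neg_one_pow, inv_pow, hlq, inv_neg, neg_one_mul]
  have hσ : ∀ x : F, Forms.qEnd hF x = x ^ q := Forms.qEnd_apply hF
  set u := ((lam : F) + mu) / 2 with hu
  set v := ((lam : F) - mu) / (2 * i) with hv
  have hu' : u ^ q = -u := by
    rw [← hσ, hu, map_div₀, map_add, map_ofNat, hσ, hσ, hlq, hmuq, ← neg_add, neg_div]
  have hv' : v ^ q = -v := by
    rw [← hσ, hv, map_div₀, map_sub, map_mul, map_ofNat, hσ, hσ, hσ, hlq, hmuq, hiq, sub_eq_add_neg, ← neg_add,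
      neg_div, ← sub_eq_add_neg]
  have hlm : (lam : F) * mu = -1 := by rw [hmu, mul_neg, mul_inv_cancel₀ lam.ne_zero]
  have h : u ^ 2 + v ^ 2 = -1 := by
    rw [hu, hv, div_pow, div_pow, mul_pow, show i ^ 2 = -1 by rw [pow_two, hii], mul_neg_one, div_neg,
      ← sub_eq_add_neg, ← sub_div,
      show ((lam : F) + mu) ^ 2 - ((lam : F) - mu) ^ 2 = 2 ^ 2 * ((lam : F) * mu) by ring, hlm,
      mul_div_cancel_left₀ _ (pow_ne_zero 2 h2)]
  refine ⟨u, v, h, isSDData_of_eigen (RingHom.id F) h2 (by omega) i lam hii (by rw [Nat.add_sub_cancel, hl]) ?_, ?_, ?_⟩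
  · simp only [RingHom.id_apply]
    rw [hu, hv, div_mul_eq_mul_div, mul_div_mul_right _ _ hi0, ← add_div,
      show (lam : F) + mu + ((lam : F) - mu) = 2 * lam by ring, mul_div_cancel_left₀ _ h2]
  · clear_value u v
    rw [mem_GU_iff hF, coe_rot]
    ext a b
    have hσu : Forms.qEnd hF u = -u := by rw [hσ, hu']
    have hσv : Forms.qEnd hF v = -v := by rw [hσ, hv']
    fin_cases a <;> fin_cases b <;> simp [Matrix.mul_apply, Fin.sum_univ_two, hσu, hσv, map_neg] <;>
      first | ring1 | linear_combination -h | linear_combination h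
  · rw [mem_GU_iff hF, show ((refl2 : GL (Fin 2) F) : Matrix (Fin 2) (Fin 2) F) = !![1, 0; 0, -1] from rfl]
    ext a b
    fin_cases a <;> fin_cases b <;> simp [Matrix.mul_apply, Fin.sum_univ_two, map_neg]

theorem range_su (n : ℕ) :
    ((SpecialLinearGroup.toGL : SpecialLinearGroup (Fin n) F →* GL (Fin n) F).comp (Cfsg.SU n F q).subtype).range =
      Cfsg.GU n F q ⊓ (GeneralLinearGroup.det : GL (Fin n) F →* Fˣ).ker := by
  apply le_antisymm
  · rintro _ ⟨g, rfl⟩
    exact Subgroup.mem_inf.2 ⟨g.2, MonoidHom.mem_ker.2 (Units.ext g.1.2)⟩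
  · rintro g ⟨hg, hd⟩
    exact ⟨⟨⟨(g : Matrix (Fin n) (Fin n) F), congrArg Units.val hd⟩, hg⟩, Units.ext rfl⟩

/-- Odd index subgroups of `PSU_n(q)`, `q` odd, `n = 2^(j+2)`. -/
theorem isPronormal_psu_odd (hF : Fintype.card F = q ^ 2) (h2 : (2 : F) ≠ 0) (j n : ℕ) (hn : n = 2 ^ (j + 2))
    (H : Subgroup (Cfsg.PSU n F q)) (hH : Odd H.index) : Cfsg.IsPronormal H := by
  have hq1 := Forms.one_lt_q hF
  obtain ⟨p, k, hpp, hp, hk⟩ := Forms.exists_prime_pow_q hF
  haveI := hp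
  have hqo : Odd q := by
    have hp2 : p ≠ 2 := fun e => h2 (by subst e; exact CharP.cast_eq_zero F 2)
    rw [hk]; exact (hpp.odd_of_ne_two hp2).pow
  have hn1 : 1 ≤ n := hn ▸ Nat.one_le_two_pow
  set C := 2 * v2 (q + 1) + v2 (q - 1) + 1 with hCdef
  have hprod : (∏ i ∈ Finset.range n, (if Even i then q ^ (i + 1) + 1 else q ^ (i + 1) - 1)) ≠ 0 :=
    Finset.prod_ne_zero_iff.2 fun i _ => by
      have := Nat.one_lt_pow (show i + 1 ≠ 0 by omega) hq1
      split_ifs <;> omega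
  haveI : Finite (Cfsg.SU n F q) := inferInstance
  have hfac : (Nat.card (Cfsg.SU n F q)).factorization 2 + v2 (q + 1) = 2 ^ (j + 1) * C - 1 := by
    have h3 := Forms.card_SU_mul hF hn1
    have h2' : (Nat.card (Cfsg.GU n F q)).factorization 2 =
        v2 (∏ i ∈ Finset.range n, (if Even i then q ^ (i + 1) + 1 else q ^ (i + 1) - 1)) := by
      rw [Forms.card_GU hF, Nat.factorization_mul (pow_ne_zero _ (by omega)) hprod, Finsupp.add_apply,
        Nat.factorization_eq_zero_of_not_dvd (hqo.pow).not_two_dvd_nat, zero_add,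
        Nat.factorization_def _ Nat.prime_two]
    rw [← h3, Nat.factorization_mul (by omega) Nat.card_pos.ne', Finsupp.add_apply,
      Nat.factorization_def _ Nat.prime_two] at h2'
    have h4 := v2_prod_GU hq1 hqo (j + 1)
    rw [← hn, ← hCdef] at h4
    simp only [v2] at h2' h4 ⊢
    omega
  obtain ⟨D, hD, hbase⟩ : ∃ D : Subgroup Fˣ, Nat.card D = 2 ^ v2 (q + 1) ∧
      ∃ S : Subgroup (GL (Fin 2) F), Layer (unitFamily hF) D 2 (C - 1) S ∧
        ∃ y ∈ S, y * y = -1 ∧ GeneralLinearGroup.det y = 1 := by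
    haveI : Fact (Nat.Prime 2) := ⟨Nat.prime_two⟩
    have hone : ∀ x, x % 4 = 2 → v2 x = 1 := fun x hx => by
      obtain ⟨c, rfl⟩ : ∃ c, x = 2 * c := ⟨x / 2, by omega⟩
      show padicValNat 2 (2 * c) = 1
      rw [padicValNat.mul two_ne_zero (by omega), padicValNat.self one_lt_two,
        padicValNat.eq_zero_of_not_dvd (show ¬ 2 ∣ c by omega)]
    rcases Nat.lt_or_ge (q % 4) 2 with h | h
    · have ha : v2 (q + 1) = 1 := hone _ (by obtain ⟨c, hc⟩ := hqo; omega)
      obtain ⟨u, v, h, hd, hr, hs⟩ := exists_sdData_unitary hF h2 (by obtain ⟨c, hc⟩ := hqo; omega)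
      rw [hCdef, ha, Nat.add_sub_cancel, show 2 * 1 + v2 (q - 1) = v2 (q - 1) + 1 + 1 by omega]
      exact exists_base_sd (unitFamily hF) h2 hd hr hs
    · have hb : v2 (q - 1) = 1 := hone _ (by obtain ⟨c, hc⟩ := hqo; omega)
      rw [hCdef, hb, Nat.add_sub_cancel]
      refine exists_base_one (unitFamily hF) h2 (powMonoidHom (α := Fˣ) (q + 1)).ker
        (fun d hd => oneHom_mem_GU hF hd) ?_
        ((padicValNat_dvd_iff_le (show q + 1 ≠ 0 by omega)).1 (show 2 ^ 2 ∣ q + 1 by obtain ⟨c, hc⟩ := hqo; omega))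
      rw [Forms.card_norm_kernel hF, Nat.factorization_def _ Nat.prime_two]
  refine isPronormal_of_family (unitFamily hF) D h2 C (by omega) _ hD hbase j n hn
    ((SpecialLinearGroup.toGL : SpecialLinearGroup (Fin n) F →* GL (Fin n) F).comp (Cfsg.SU n F q).subtype)
    (SpecialLinearGroup.toGL_injective.comp (Cfsg.SU n F q).subtype_injective) (range_su n) hfac
    (QuotientGroup.mk' (Subgroup.center (Cfsg.SU n F q))) (QuotientGroup.mk'_surjective _) ?_ H hH
  rw [QuotientGroup.ker_mk']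

/-- Odd index subgroups of `PSU_(2r)(q)`, `q` even. -/
theorem isPronormal_psu_even (hF : Fintype.card F = q ^ 2) [CharP F 2] (r n : ℕ) (hn : n = 2 * r)
    (H : Subgroup (Cfsg.PSU n F q)) (hH : Odd H.index) : Cfsg.IsPronormal H := by
  classical
  subst hn
  haveI : Fact (Nat.Prime 2) := ⟨Nat.prime_two⟩
  haveI : Fact (∀ a, Fusion.HermBlocks.qAut hF (Fusion.HermBlocks.qAut hF a) = a) :=
    ⟨Fusion.HermBlocks.qAut_invol hF⟩
  set σ := Fusion.HermBlocks.qAut hF with hσdef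
  let e : Fusion.HermBlocks.Hix r 0 ≃ Fin (2 * r) :=
    ((Equiv.refl (Fin r)).sumCongr ((Equiv.emptySum (Fin 0) (Fin r)).trans Fin.revPerm)).trans
      (finSumFinEquiv.trans (finCongr (two_mul r).symm))
  have he : ∀ x, e (Fusion.HermBlocks.flip r 0 x) = (e x).rev := by
    rintro (i | k | i)
    · refine Fin.ext ?_
      simp [e, Fusion.HermBlocks.flip, Fin.val_rev]
      omega
    · exact k.elim0
    · refine Fin.ext ?_
      simp [e, Fusion.HermBlocks.flip, Fin.val_rev]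
      omega
  obtain ⟨f₀⟩ := Fusion.HermBlocks.exists_equiv_SU hF (r := r) (d := 0) (n := 2 * r) e
  let ρ : Fusion.HermBlocks.HU σ r 0 →* GL (Fin (2 * r)) F :=
    ((glr e).toMonoidHom.comp SpecialLinearGroup.toGL).comp (Fusion.HermBlocks.HU σ r 0).subtype
  have hρ : Function.Injective ρ := ((glr e).injective.comp SpecialLinearGroup.toGL_injective).comp
    (Fusion.HermBlocks.HU σ r 0).subtype_injective
  have hsymm : ∀ i, e.symm (Fin.rev i) = Fusion.HermBlocks.flip r 0 (e.symm i) := fun i => by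
    rw [Equiv.symm_apply_eq, he, Equiv.apply_symm_apply]
  have htheta : ∀ g : GL (Fusion.HermBlocks.Hix r 0) F,
      ((theta (σ : F →+* F) ((glr e g)⁻¹) : GL (Fin (2 * r)) F) : Matrix (Fin (2 * r)) (Fin (2 * r)) F) =
        (Fusion.HermBlocks.adj σ (g : Matrix (Fusion.HermBlocks.Hix r 0) (Fusion.HermBlocks.Hix r 0) F)).submatrix e.symm e.symm := by
    intro g
    ext i j
    rw [theta_apply, inv_inv, coe_glr, Matrix.submatrix_apply, hsymm, hsymm]
    rfl
  set G := thetaFixed (σ : F →+* F) (2 * r) with hG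
  have hrange : ρ.range = G := by
    apply le_antisymm
    · rintro _ ⟨g, rfl⟩
      refine (mem_thetaFixed _).2 ⟨?_, ?_⟩
      · have h1 : theta (σ : F →+* F) (ρ g)⁻¹ * ρ g = 1 := by
          refine Units.ext ?_
          rw [GeneralLinearGroup.coe_mul,
            show ρ g = glr e (SpecialLinearGroup.toGL g.1) from rfl, htheta, coe_glr, Matrix.submatrix_mul_equiv,
            Units.val_one]
          show (Fusion.HermBlocks.adj σ g.1.1 * g.1.1).submatrix e.symm e.symm = 1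
          rw [Fusion.HermBlocks.adj_mul_self, Matrix.submatrix_one_equiv]
        rw [map_inv, inv_mul_eq_one] at h1
        exact h1
      · rw [show ρ g = glr e (SpecialLinearGroup.toGL g.1) from rfl, det_glr]
        exact Units.ext g.1.2
    · intro g hg
      obtain ⟨g, rfl⟩ := (glr e).surjective g
      obtain ⟨h1, h2⟩ := (mem_thetaFixed _).1 hg
      rw [det_glr] at h2
      let s : SpecialLinearGroup (Fusion.HermBlocks.Hix r 0) F := ⟨(g : Matrix (Fusion.HermBlocks.Hix r 0) (Fusion.HermBlocks.Hix r 0) F), congrArg Units.val h2⟩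
      have hs : s ∈ Fusion.HermBlocks.HU σ r 0 := by
        show Fusion.HermBlocks.adj σ (g : Matrix (Fusion.HermBlocks.Hix r 0) (Fusion.HermBlocks.Hix r 0) F) * (g : Matrix (Fusion.HermBlocks.Hix r 0) (Fusion.HermBlocks.Hix r 0) F) = 1
        have h3 : theta (σ : F →+* F) (glr e g)⁻¹ * glr e g = 1 := by rw [map_inv, h1, inv_mul_cancel]
        have h4 := congrArg (fun M : GL (Fin (2 * r)) F => (M : Matrix (Fin (2 * r)) (Fin (2 * r)) F).submatrix e e) h3
        rw [GeneralLinearGroup.coe_mul, htheta, coe_glr, Matrix.submatrix_mul_equiv, Matrix.submatrix_submatrix,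
          Units.val_one, Matrix.submatrix_one_equiv] at h4
        simpa using h4
      exact ⟨⟨s, hs⟩, congrArg (glr e) (Units.ext rfl)⟩
  let iso : G ≃* Cfsg.SU (2 * r) F q :=
    ((MonoidHom.ofInjective hρ).trans (MulEquiv.subgroupCongr hrange)).symm.trans f₀
  let f : G →* Cfsg.PSU (2 * r) F q :=
    (QuotientGroup.mk' (Subgroup.center (Cfsg.SU (2 * r) F q))).comp iso.toMonoidHom
  have hf : Function.Surjective f := (QuotientGroup.mk'_surjective _).comp iso.surjective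
  refine isPronormal_of_comap f hf H ((frame_thetaFixed (σ : F →+* F) rfl).isPronormal 2 _ ?_)
  rw [Subgroup.index_comap_of_surjective H hf]
  exact fun h => Nat.not_even_iff_odd.2 hH (even_iff_two_dvd.2 h)

end Cfsg.Agent.Pronormal
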